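import Cfsg.Agent.Lib.FusionSub.CoreModExt
import Cfsg.Agent.Lib.FusionSub.Residual
import Cfsg.Agent.Lib.FusionModels.NormalClosure
import Cfsg.Agent.Lib.FusionExamples.Abelian
import Cfsg.Agent.Lib.FusionExamples.SmallElements
import Cfsg.Agent.Lib.FusionBasics.PPower.Inner
import Cfsg.Agent.Lib.Alperin.Induced

/-!
Components of a saturated fusion system centralize its normal subgroups.
-/

set_option autoImplicit false
set_option linter.style.haveILetI false
set_option linter.unusedSectionVars false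

namespace CfsgLib.FusionSub.CoreComponent

open Cfsg Cfsg.FusionSystem CfsgLib.Alperin CfsgLib.FusionSub CfsgLib.FusionBasics
open CfsgLib.Alperin.NormalLift

variable {Ω : Type*} [Group Ω] {S U : Subgroup Ω} {p : ℕ} [Fact p.Prime]

/-- The inner system of a normal subgroup is a normal subsystem. -/
theorem inner_isNormalIn [Finite S] (hS : IsPGroup p S) {F : FusionSystem S} (hF : F.IsSaturated p)
    {R : Subgroup Ω} (hR : F.IsNormal R) : (innerFusionSystem R).IsNormalIn F p := by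
  haveI := finite_of_le hR.1
  refine ⟨⟨CfsgLib.FusionBasics.PPower.inner_isSaturated (isPGroup_of_le hS hR.1), hF,
    CfsgLib.FusionModels.inner_isInvariantIn_of_isNormal hR⟩, fun α hα => ?_⟩
  obtain ⟨-, g, hg, hgx⟩ := (mem_autGroup_iff (innerFusionSystem R) le_rfl).mp hα
  have hX : R ⊔ centralizerIn S R ≤ S := sup_le hR.1 (centralizerIn_le S R)
  have hgN : g ∈ Subgroup.normalizer ((R ⊔ centralizerIn S R : Subgroup Ω) : Set Ω) :=
    Subgroup.le_normalizer (Subgroup.mem_sup_left hg)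
  refine ⟨conjAut _ g hgN, autInducedBy_le_autGroup F hX (conjAut_mem (hR.1 hg) hgN),
    fun x => (hgx x).symm, fun c hc => ?_⟩
  show (c : Ω)⁻¹ * (g * c * g⁻¹) ∈ _
  rw [hc.2 g hg, mul_inv_cancel_right, inv_mul_cancel]
  exact one_mem _

/-- A subgroup normal in a quasisimple system is central in it. -/
theorem le_center_of_quasisimple [Finite U] (hU : IsPGroup p U) {C : FusionSystem U}
    (hq : C.Quasisimple p) {R : Subgroup Ω} (hR : C.IsNormal R) : R ≤ C.center := by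
  obtain ⟨hC, hhyp, hsimple⟩ := hq
  have hcent := CfsgLib.FusionExamples.isCentral_center C
  set Z := C.center with hZdef
  have hfix : ∀ (P : Subgroup Ω) (φ : P →* Ω), φ ∈ C.Hom P → ∀ x : P, (x : Ω) ∈ Z → φ x = x := by
    intro P φ hφ x hx
    obtain ⟨ψ, -, hψx, hψQ⟩ := hcent.2 P φ hφ
    rw [← hψx x]
    exact (congrArg ψ (Subtype.ext rfl)).trans (hψQ ⟨x, hx⟩)
  have hZsc : C.StronglyClosed Z :=
    ⟨hcent.1, fun R' hR' φ hφ x => by rw [hfix R' φ hφ x (hR' x.2)]; exact hR' x.2⟩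
  set θ := QuotientGroup.mk' (Z.subgroupOf U) with hθ
  have hker : ∀ s : U, θ s = 1 ↔ (s : Ω) ∈ Z := fun s => QuotientGroup.eq_one_iff s
  have hθs : Function.Surjective θ := QuotientGroup.mk'_surjective _
  obtain ⟨E, hE⟩ := exists_isFactorSystem C hZsc θ hker (MonoidHom.range_eq_top.mpr hθs)
  obtain ⟨hEs, hne, hnorm⟩ := hsimple E hE
  have hTp : IsPGroup p (⊤ : Subgroup (U ⧸ Z.subgroupOf U)) := (hU.to_quotient _).to_subgroup _
  set R' := imageAlong θ R with hR'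
  have hR'n : E.IsNormal R' := by
    refine ⟨le_top, fun P' φ' hφ' => ?_⟩
    obtain ⟨hP', φ, hφ, hP, hφS, hPP, hx⟩ := (hE.2.2.2 P' φ').mp hφ'
    obtain ⟨ψ, hψ, hψx, hψR⟩ := hR.2 _ φ hφ
    have hle : preimageAlong θ (P' ⊔ R') ≤ preimageAlong θ P' ⊔ R := by
      intro x hx
      obtain ⟨hxU, hxθ⟩ := mem_preimageAlong.mp hx
      have h1 : P' ⊔ R' ≤ imageAlong θ (preimageAlong θ P' ⊔ R) := by
        refine sup_le (fun y hy => ?_) fun y hy => ?_
        · obtain ⟨a, rfl⟩ := hθs y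
          exact ⟨a, Subgroup.mem_sup_left (mem_preimageAlong.mpr ⟨a.2, hy⟩), rfl⟩
        · obtain ⟨a, ha, rfl⟩ := hy
          exact ⟨a, Subgroup.mem_sup_right (show (a : Ω) ∈ R from ha), rfl⟩
      obtain ⟨w, hw, hwx⟩ := h1 hxθ
      have hz : w⁻¹ * ⟨x, hxU⟩ ∈ θ.ker := by
        rw [MonoidHom.mem_ker, map_mul, map_inv, hwx, inv_mul_cancel]
      have hz' : ((w⁻¹ * ⟨x, hxU⟩ : U) : Ω) ∈ preimageAlong θ P' :=
        mem_preimageAlong.mpr ⟨(w⁻¹ * ⟨x, hxU⟩ : U).2, by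
          rw [show θ _ = 1 from MonoidHom.mem_ker.mp hz]; exact one_mem _⟩
      have h2 := mul_mem (show (w : Ω) ∈ preimageAlong θ P' ⊔ R from hw) (Subgroup.mem_sup_left hz')
      rwa [Subgroup.coe_mul, Subgroup.coe_inv, mul_inv_cancel_left] at h2
    have hχ := restrict_mem hψ hle
    set χ := ψ.comp (Subgroup.inclusion hle)
    obtain ⟨χ', hind⟩ := exists_inducedAlong θ (preimageAlong_le θ _) χ (apply_mem hχ) fun y hy => by
      refine (hker _).mpr ?_
      show χ y ∈ Z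
      rw [hfix _ χ hχ y ((hker _).mp hy)]
      exact (hker _).mp hy
    obtain ⟨hQU, hχS, hQQ, hxx⟩ := hind
    have himg : ∀ y : ↥(P' ⊔ R'), (y : U ⧸ Z.subgroupOf U) ∈ imageAlong θ (preimageAlong θ (P' ⊔ R')) :=
      fun y => by
        obtain ⟨a, ha⟩ := hθs (y : U ⧸ Z.subgroupOf U)
        exact ⟨a, mem_preimageAlong.mpr ⟨a.2, ha ▸ y.2⟩, ha⟩
    let ψ' : ↥(P' ⊔ R') →* U ⧸ Z.subgroupOf U := χ'.comp
      ((Subgroup.subtype _).codRestrict _ himg)
    have hval : ∀ (a : U) (ha : θ a ∈ P' ⊔ R') (hb : (a : Ω) ∈ preimageAlong θ (P' ⊔ R')),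
        ψ' ⟨θ a, ha⟩ = θ ⟨χ ⟨a, hb⟩, hχS _⟩ := fun a ha hb =>
      (congrArg χ' (Subtype.ext rfl)).trans (hxx ⟨a, hb⟩)
    refine ⟨ψ', (hE.2.2.2 _ ψ').mpr ⟨le_top, χ, hχ, hQU, hχS,
      fun y => (mem_preimageAlong.mp y.2).2, fun y => ?_⟩, fun y => ?_, ?_⟩
    · exact hval ⟨y, hQU y.2⟩ (mem_preimageAlong.mp y.2).2 y.2
    · obtain ⟨a, ha⟩ := hθs (y : U ⧸ Z.subgroupOf U)
      have hbP : (a : Ω) ∈ preimageAlong θ P' := mem_preimageAlong.mpr ⟨a.2, ha ▸ y.2⟩
      have hb : (a : Ω) ∈ preimageAlong θ (P' ⊔ R') :=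
        mem_preimageAlong.mpr ⟨a.2, ha ▸ Subgroup.mem_sup_left y.2⟩
      have e1 : (Subgroup.inclusion le_sup_left y : ↥(P' ⊔ R')) =
          ⟨θ a, ha ▸ Subgroup.mem_sup_left y.2⟩ := Subtype.ext ha.symm
      rw [e1, hval a _ hb]
      have e2 : y = ⟨θ a, ha ▸ y.2⟩ := Subtype.ext ha.symm
      rw [e2]
      refine Eq.trans (congrArg θ (Subtype.ext ?_)) (hx ⟨a, hbP⟩).symm
      exact (congrArg ψ (Subtype.ext rfl)).trans (hψx ⟨a, hbP⟩)
    · refine le_antisymm ?_ ?_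
      · rintro _ ⟨y, hy, rfl⟩
        obtain ⟨a, haR, hay⟩ := (hy : (y : U ⧸ Z.subgroupOf U) ∈ R')
        have hb : (a : Ω) ∈ preimageAlong θ (P' ⊔ R') := mem_preimageAlong.mpr ⟨a.2, hay ▸ y.2⟩
        have ey : y = ⟨θ a, hay ▸ y.2⟩ := Subtype.ext hay.symm
        rw [ey, hval a _ hb]
        exact ⟨⟨χ ⟨a, hb⟩, hχS _⟩, hψR.le ⟨_, haR, congrArg ψ (Subtype.ext rfl)⟩, rfl⟩
      · rintro y ⟨a, haR, rfl⟩
        obtain ⟨w, hw, hwa⟩ := hψR.ge haR
        have hwU : (w : Ω) ∈ U := hR.1 hw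
        have hwR' : θ ⟨w, hwU⟩ ∈ R' := ⟨⟨w, hwU⟩, hw, rfl⟩
        have hb : (w : Ω) ∈ preimageAlong θ (P' ⊔ R') :=
          mem_preimageAlong.mpr ⟨hwU, Subgroup.mem_sup_right hwR'⟩
        refine ⟨⟨θ ⟨w, hwU⟩, Subgroup.mem_sup_right hwR'⟩, hwR', ?_⟩
        rw [hval ⟨w, hwU⟩ _ hb]
        exact congrArg θ (Subtype.ext ((congrArg ψ (Subtype.ext rfl)).trans hwa))
  have hIn := inner_isNormalIn hTp hEs hR'n
  rcases hnorm _ _ hIn with h | ⟨htop, hEq⟩
  · intro r hr
    have hrU := hR.1 hr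
    refine (hker ⟨r, hrU⟩).mp ?_
    exact Subgroup.mem_bot.mp (h.le ⟨⟨r, hrU⟩, hr, rfl⟩)
  exfalso
  apply hne
  have hbot : C.hyperfocalSubgroup p = ⊥ := by
    refine (Subgroup.closure_eq_bot_iff).mpr ?_
    rintro y ⟨P, α, x, hP, hα, rfl⟩
    haveI := finite_of_le hP
    haveI := finite_autGroup C hP
    suffices h : ∀ β : C.autGroup P, (orderOf β).Coprime p → β = 1 by
      have hle : pResidual p (C.autGroup P) ≤ ⊥ := (Subgroup.closure_le _).mpr fun β hβ =>
        Subgroup.mem_bot.mpr (h β hβ)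
      rw [Subgroup.mem_bot.mp (hle hα)]
      simp
    intro β hord
    obtain ⟨ψ, hψ, hψx, hψZ⟩ := hcent.2 P _ ((mem_autGroup_iff C hP).mp β.2)
    have hpre : preimageAlong θ (imageAlong θ P) ≤ P ⊔ Z := by
      intro z hz
      obtain ⟨hzU, w, hw, hwz⟩ := mem_preimageAlong.mp hz
      have hk : ((w⁻¹ * ⟨z, hzU⟩ : U) : Ω) ∈ Z :=
        (hker _).mp (by rw [map_mul, map_inv, hwz, inv_mul_cancel])
      have h2 := mul_mem (Subgroup.mem_sup_left (S := P) (T := Z) (show (w : Ω) ∈ P from hw))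
        (Subgroup.mem_sup_right hk)
      rwa [Subgroup.coe_mul, Subgroup.coe_inv, mul_inv_cancel_left] at h2
    have hχ := restrict_mem hψ hpre
    set χ := ψ.comp (Subgroup.inclusion hpre)
    obtain ⟨χ', hind⟩ := exists_inducedAlong θ (preimageAlong_le θ _) χ (apply_mem hχ) fun y hy => by
      refine (hker _).mpr ?_
      show χ y ∈ Z
      rw [hfix _ χ hχ y ((hker _).mp hy)]
      exact (hker _).mp hy
    obtain ⟨hQU, hχS, hQQ, hxx⟩ := hind
    have himg : ∀ y : imageAlong θ P,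
        (y : U ⧸ Z.subgroupOf U) ∈ imageAlong θ (preimageAlong θ (imageAlong θ P)) := fun y => by
      obtain ⟨a, ha⟩ := hθs (y : U ⧸ Z.subgroupOf U)
      exact ⟨a, mem_preimageAlong.mpr ⟨a.2, ha ▸ y.2⟩, ha⟩
    let φ' : imageAlong θ P →* U ⧸ Z.subgroupOf U :=
      χ'.comp ((Subgroup.subtype _).codRestrict _ himg)
    have hφ'E : φ' ∈ E.Hom (imageAlong θ P) := (hE.2.2.2 _ _).mpr ⟨le_top, χ, hχ, hQU, hχS,
      fun y => (mem_preimageAlong.mp y.2).2,
      fun y => (congrArg χ' (Subtype.ext rfl)).trans (hxx y)⟩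
    rw [← hEq] at hφ'E
    obtain ⟨-, g, -, hg⟩ := hφ'E
    obtain ⟨s, rfl⟩ := hθs g
    -- `β` is conjugation by `s` modulo the centre
    have hb : ∀ x : P, θ ⟨((β : MulAut P) x : P), hP ((β : MulAut P) x).2⟩ =
        θ s * θ ⟨x, hP x.2⟩ * (θ s)⁻¹ := by
      intro x
      have hxm : (x : Ω) ∈ preimageAlong θ (imageAlong θ P) :=
        mem_preimageAlong.mpr ⟨hP x.2, ⟨x, hP x.2⟩, x.2, rfl⟩
      rw [← hg ⟨θ ⟨x, hP x.2⟩, (mem_preimageAlong.mp hxm).2⟩]
      refine Eq.trans ?_ ((congrArg χ' (Subtype.ext rfl)).trans (hxx ⟨x, hxm⟩)).symm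
      exact congrArg θ (Subtype.ext ((congrArg ψ (Subtype.ext rfl)).trans (hψx x)).symm)
    obtain ⟨e, he⟩ := IsPGroup.iff_card.mp hU
    have hit : ∀ (n : ℕ) (x : P), θ ⟨(((β : MulAut P) ^ n) x : P), hP (((β : MulAut P) ^ n) x).2⟩ =
        θ s ^ n * θ ⟨x, hP x.2⟩ * (θ s ^ n)⁻¹ := by
      intro n
      induction n with
      | zero => intro x; simp
      | succ n ih =>
        intro x
        rw [pow_succ (β : MulAut P), pow_succ (θ s)]
        show θ ⟨(((β : MulAut P) ^ n) ((β : MulAut P) x) : P), _⟩ = _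
        rw [ih, hb]
        group
    have hfixb : ∀ x : P, (x : Ω) ∈ Z → (β : MulAut P) x = x := fun x hx =>
      Subtype.ext (hfix P _ ((mem_autGroup_iff C hP).mp β.2) x hx)
    have hβ1 : (β : MulAut P) ^ p ^ e = 1 := by
      refine MulEquiv.ext fun x => ?_
      have hord' : ((β : MulAut P) ^ p ^ e) ^ orderOf β = 1 := by
        rw [← pow_mul, mul_comm, pow_mul]
        rw [show (β : MulAut P) ^ orderOf β = 1 from congrArg Subtype.val (pow_orderOf_eq_one β),
          one_pow]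
      refine CfsgLib.FusionExamples.eq_of_stable (isPGroup_of_le hU hP) _ hord' hord ?_
      have hz : ((x⁻¹ * ((β : MulAut P) ^ p ^ e) x : P) : Ω) ∈ Z := by
        have h1 := hit (p ^ e) x
        rw [← map_pow, show s ^ p ^ e = 1 from he ▸ pow_card_eq_one', map_one] at h1
        simp only [one_mul, inv_one, mul_one] at h1
        refine (hker ⟨_, hP (x⁻¹ * ((β : MulAut P) ^ p ^ e) x).2⟩).mp ?_
        have e2 : (⟨_, hP (x⁻¹ * ((β : MulAut P) ^ p ^ e) x).2⟩ : U) =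
            (⟨x, hP x.2⟩ : U)⁻¹ * ⟨_, hP (((β : MulAut P) ^ p ^ e) x).2⟩ := rfl
        rw [e2, map_mul, map_inv, h1, inv_mul_cancel]
      have hfn : ∀ (n : ℕ) (y : P), (y : Ω) ∈ Z → ((β : MulAut P) ^ n) y = y := by
        intro n
        induction n with
        | zero => intro y _; simp
        | succ n ih => intro y hy; rw [pow_succ, MulAut.mul_apply, hfixb y hy, ih y hy]
      exact hfn _ _ hz
    refine orderOf_eq_one_iff.mp (Nat.dvd_one.mp ((hord.pow_right e) ▸ Nat.dvd_gcd dvd_rfl ?_))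
    exact orderOf_dvd_of_pow_eq_one (Subtype.ext hβ1)
  refine (Subgroup.eq_bot_iff_forall _).mpr fun y _ => ?_
  obtain ⟨a, rfl⟩ := hθs y
  have hU1 : (a : Ω) ∈ (⊥ : Subgroup Ω) := by rw [← hbot, hhyp]; exact a.2
  rw [show a = 1 from Subtype.ext (Subgroup.mem_bot.mp hU1), map_one]

/-- A subnormal subsystem is a subsystem. -/
theorem subnormal_isSubsystemOf {C : FusionSystem U} {F : FusionSystem S}
    (h : C.IsSubnormalIn F p) : C.IsSubsystemOf F := by
  induction h with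
  | refl F p => exact fun _ _ h => h
  | step _ hD ih => exact fun P φ hφ => hD.1.2.2.1 P (ih P hφ)

/-- The automorphisms of `P` with an extension fixing `Y`. -/
def fixGroup [Finite S] (F : FusionSystem S) (Y P : Subgroup Ω) (hP : P ≤ S) (hY : Y ≤ S) :
    Subgroup (MulAut P) where
  carrier := {a | FixY F Y P (P.subtype.comp a.toMonoidHom)}
  one_mem' := FixY.incl hP hY
  mul_mem' {a b} ha hb := hb.comp ha (fun x => (b x).2) fun _ => rfl
  inv_mem' {a} ha := ha.inv (range_subtype_comp_aut a) fun x hx => by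
    show (((a⁻¹ : MulAut P) (a x) : P) : Ω) = x
    rw [MulAut.inv_apply_self]

/-- The maps of `C` extending trivially on `Y`, as a system, when `U` centralizes `Y`. -/
def fixSystem [Finite S] (F : FusionSystem S) (C : FusionSystem U) (Y : Subgroup Ω) (hY : Y ≤ S)
    (hUS : U ≤ S) (hUY : U ≤ Subgroup.centralizer (Y : Set Ω)) : FusionSystem U where
  Hom P := {φ | φ ∈ C.Hom P ∧ FixY F Y P φ}
  le_of_mem h := C.le_of_mem h.1
  injective_of_mem h := C.injective_of_mem h.1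
  conj_mem {P g} hP hg := ⟨C.conj_mem hP hg, conjHom _ g,
    F.conj_mem (sup_le (hP.trans hUS) hY) (hUS hg), fun _ => rfl, fun y => by
      show g * (y : Ω) * g⁻¹ = y
      rw [← hUY hg y y.2, mul_inv_cancel_right]⟩
  comp_mem {P Q φ ψ} h₁ h₂ h := ⟨C.comp_mem h₁.1 h₂.1 h, h₁.2.comp h₂.2 h fun _ => rfl⟩
  inv_mem {P φ} h := by
    obtain ⟨θ, hθ, hθx⟩ := C.inv_mem h.1
    exact ⟨θ, ⟨hθ, h.2.inv rfl fun x _ => (congrArg θ (Subtype.ext rfl)).trans (hθx x)⟩, hθx⟩

/-- Components centralize normal subgroups. -/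
theorem component_fix {C : FusionSystem U} {F : FusionSystem S} (hsub : C.IsSubnormalIn F p) :
    C.Quasisimple p → ∀ [Fact p.Prime] [Finite S], IsPGroup p S → ∀ Q : Subgroup Ω, F.IsNormal Q →
      U ≤ Subgroup.centralizer (Q : Set Ω) ∧ ∀ (P : Subgroup Ω) (φ : P →* Ω), φ ∈ C.Hom P →
        FixY F Q P φ := by
  induction hsub with
  | @refl F p =>
    intro hq _ _ hS Q hQ
    have hle := le_center_of_quasisimple hS hq hQ
    refine ⟨fun u hu q hq' => ?_, fun P φ hφ => ?_⟩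
    · exact (F.center_le_centralizer (hle hq') u hu).symm
    · obtain ⟨ψ, hψ, hψx, hψZ⟩ := (CfsgLib.FusionExamples.isCentral_center F).2 P φ hφ
      exact ⟨_, restrict_mem hψ (sup_le_sup_left hle P),
        fun x => (congrArg ψ (Subtype.ext rfl)).trans (hψx x),
        fun y => (congrArg ψ (Subtype.ext rfl)).trans (hψZ ⟨y, hle y.2⟩)⟩
  | @step T S C D F p hCD hD ih =>
    intro hq _ _ hS Q hQ
    obtain ⟨hDs, hF, hinv⟩ := hD.1
    have hTS : T ≤ S := hinv.2.1.1
    haveI := finite_of_le hTS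
    have hTp := isPGroup_of_le hS hTS
    have hCDsub := subnormal_isSubsystemOf hCD
    have hUT : U ≤ T := subsystem_le hCDsub
    have hUS : U ≤ S := hUT.trans hTS
    haveI := finite_of_le hUS
    have hUp := isPGroup_of_le hS hUS
    obtain ⟨-, hihF⟩ := ih hq hTp (Q ⊓ T) (CoreModExt.isNormal_inf hS hDs hinv.1 hQ)
    have hQc := isNormal_stronglyClosed hQ
    obtain ⟨e, he⟩ := IsPGroup.iff_card.mp hS
    have key : ∀ (P : Subgroup Ω) (hP : P ≤ U),
        (pResidual p (C.autGroup P)).map (C.autGroup P).subtype ≤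
          fixGroup F Q P (hP.trans hUS) hQ.1 := by
      intro P hP
      haveI := finite_of_le (hP.trans hUS)
      rw [pResidual, MonoidHom.map_closure, Subgroup.closure_le]
      rintro _ ⟨a, hord, rfl⟩
      have hord' : (orderOf (a : MulAut P)).Coprime p := by
        rw [Subgroup.orderOf_coe]; exact hord
      refine CoreModExt.mem_of_coprime_pows (a := p ^ e) (b := orderOf (a : MulAut P)) ?_
        (by show (a : MulAut P) ^ _ ∈ _; rw [pow_orderOf_eq_one]; exact one_mem _)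
        (hord'.symm.pow_left e)
      show (a : MulAut P) ^ p ^ e ∈ _
      obtain ⟨ψ₁, hψ₁, hψ₁x, hψ₁W⟩ := hihF P _ ((mem_autGroup_iff C hP).mp a.2)
      obtain ⟨ψ₂, hψ₂, hψ₂x, hψ₂Q⟩ := CoreModExt.modExt_of_mem hS hD hQ hψ₁
      have hXS : P ⊔ Q ≤ S := sup_le (hP.trans hUS) hQ.1
      haveI := finite_of_le hXS
      have hle : P ⊔ Q ≤ P ⊔ (Q ⊓ T) ⊔ Q := sup_le_sup_right le_sup_left Q
      set ψ := ψ₂.comp (Subgroup.inclusion hle) with hψdef
      have hψF : ψ ∈ F.Hom (P ⊔ Q) := restrict_mem hψ₂ hle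
      have hx : ∀ x : P, ψ (Subgroup.inclusion le_sup_left x) = ((a : MulAut P) x : P) := fun x =>
        ((congrArg ψ₂ (Subtype.ext rfl)).trans
          (hψ₂x (Subgroup.inclusion le_sup_left x))).trans (hψ₁x x)
      have hqq : ∀ q : Q, (q : Ω)⁻¹ * ψ (Subgroup.inclusion le_sup_right q) ∈ T ⊓ Q := fun q => by
        have e1 : ψ (Subgroup.inclusion le_sup_right q) = ψ₂ (Subgroup.inclusion le_sup_right q) :=
          congrArg ψ₂ (Subtype.ext rfl)
        rw [e1]
        exact hψ₂Q q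
      obtain ⟨Ψ, hΨ, hΨx⟩ := exists_aut_of_hom' F hψF (apply_mem_of_sup ψ
        (fun x => Subgroup.mem_sup_left (by rw [hx]; exact ((a : MulAut P) x).2))
        fun q => Subgroup.mem_sup_right (CoreModExt.ModExt.apply_mem (φ := P.subtype) hqq q))
      have hW : ∀ w : ↥(P ⊔ Q), (w : Ω) ∈ T ⊓ Q → Ψ w = w := fun w hw => by
        refine Subtype.ext ((hΨx w).trans ?_)
        have hw' : (w : Ω) ∈ Q ⊓ T := ⟨hw.2, hw.1⟩
        refine ((congrArg ψ₂ (Subtype.ext rfl)).trans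
          (hψ₂x ⟨w, Subgroup.mem_sup_right hw'⟩)).trans ?_
        exact (congrArg ψ₁ (Subtype.ext rfl)).trans (hψ₁W ⟨w, hw'⟩)
      have hq' : ∀ (q : Q) (n : ℕ), (Ψ ^ n) (Subgroup.inclusion le_sup_right q) =
          Subgroup.inclusion le_sup_right q * ((Subgroup.inclusion le_sup_right q)⁻¹ *
            Ψ (Subgroup.inclusion le_sup_right q)) ^ n := by
        intro q n
        set y := Subgroup.inclusion (le_sup_right : Q ≤ P ⊔ Q) q
        set w := y⁻¹ * Ψ y with hw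
        have hwW : (w : Ω) ∈ T ⊓ Q := by
          show (q : Ω)⁻¹ * ((Ψ y : ↥(P ⊔ Q)) : Ω) ∈ _
          rw [hΨx]
          exact hqq q
        induction n with
        | zero => simp
        | succ n ih =>
          rw [pow_succ', MulAut.mul_apply, ih, map_mul, map_pow, hW w hwW, pow_succ', ← mul_assoc y,
            hw, mul_inv_cancel_left]
      have hpx : ∀ (n : ℕ) (x : P), (Ψ ^ n) (Subgroup.inclusion le_sup_left x) =
          Subgroup.inclusion le_sup_left (((a : MulAut P) ^ n) x) := by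
        intro n
        induction n with
        | zero => intro x; simp
        | succ n ih =>
          intro x
          rw [pow_succ', MulAut.mul_apply, ih, pow_succ', MulAut.mul_apply]
          exact Subtype.ext ((hΨx _).trans (hx _))
      refine ⟨_, (mem_autGroup_iff F hXS).mp (pow_mem hΨ (p ^ e)),
        fun x => congrArg Subtype.val (hpx _ x), fun q => ?_⟩
      show (((Ψ ^ p ^ e) (Subgroup.inclusion le_sup_right q) : ↥(P ⊔ Q)) : Ω) = q
      rw [hq', Subgroup.coe_mul, Subgroup.coe_pow]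
      set w := (Subgroup.inclusion (le_sup_right : Q ≤ P ⊔ Q) q)⁻¹ *
        Ψ (Subgroup.inclusion le_sup_right q)
      have h5 : (⟨(w : Ω), hXS w.2⟩ : S) ^ p ^ e = 1 := he ▸ pow_card_eq_one'
      rw [show (w : Ω) ^ p ^ e = 1 from congrArg Subtype.val h5, mul_one]
      rfl
    have hUQ : U ≤ Subgroup.centralizer (Q : Set Ω) := by
      refine hq.2.1.ge.trans ((Subgroup.closure_le _).mpr ?_)
      rintro _ ⟨P, α, x, hP, hα, rfl⟩
      obtain ⟨ψ, -, hψx, hψQ⟩ := key P hP ⟨α, hα, rfl⟩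
      intro q hq'
      have hxS : (x : Ω) ∈ S := hUS (hP x.2)
      have h1 : (x : Ω) * q * (x : Ω)⁻¹ ∈ Q := stronglyClosed_conj hQc hxS hq'
      have h2 := hψQ ⟨_, h1⟩
      have e1 : (Subgroup.inclusion le_sup_right (⟨_, h1⟩ : Q) : ↥(P ⊔ Q)) =
          Subgroup.inclusion le_sup_left x * Subgroup.inclusion le_sup_right ⟨q, hq'⟩ *
            (Subgroup.inclusion le_sup_left x)⁻¹ := Subtype.ext rfl
      rw [e1, map_mul, map_mul, map_inv, hψx, hψQ] at h2
      change ((α : MulAut P) x : Ω) * q * ((α : MulAut P) x : Ω)⁻¹ = x * q * (x : Ω)⁻¹ at h2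
      show q * ((x : Ω)⁻¹ * _) = (x : Ω)⁻¹ * _ * q
      calc q * ((x : Ω)⁻¹ * ((α : MulAut P) x : P))
          = (x : Ω)⁻¹ * ((x : Ω) * q * (x : Ω)⁻¹) * ((α : MulAut P) x : P) := by group
        _ = (x : Ω)⁻¹ * ((α : MulAut P) x : P) * q := by rw [← h2]; group
    refine ⟨hUQ, fun P φ hφ => ?_⟩
    have hidx : (fixSystem F C Q hQ.1 hUS hUQ).HasPPowerIndexIn C p := by
      refine ⟨fun _ _ h => h.1, hyperfocal_le C p, fun P hP α hα => ?_⟩
      exact (mem_autGroup_iff _ hP).mpr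
        ⟨(mem_autGroup_iff C hP).mp (Subgroup.map_subtype_le _ hα), key P hP hα⟩
    exact (subsystem_of_pPowerIndex hUp hq.1 (fun _ _ h => h) hidx le_rfl P hφ).2

end CfsgLib.FusionSub.CoreComponent
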