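import Cfsg.Agent.Lib.Alperin.NormalLift
import Cfsg.Agent.Lib.Alperin.NormalModel
import Cfsg.Agent.Lib.FusionBasics.Normal
import Cfsg.Agent.Lib.FusionExamples.Hyperfocal
import Cfsg.Agent.Lib.FusionExamples.Basic

/-!
Maps of a normal subsystem over `T` extend over a normal subgroup `Q` acting trivially on `Q`
modulo `T`.
-/

set_option autoImplicit false
set_option linter.style.haveILetI false
set_option linter.unusedSectionVars false

namespace CfsgLib.FusionSub.CoreModExt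

open Cfsg Cfsg.FusionSystem CfsgLib.Alperin CfsgLib.FusionSub CfsgLib.FusionBasics

variable {Ω : Type*} [Group Ω] {S T Q : Subgroup Ω} {F : FusionSystem S} {E : FusionSystem T}
variable {p : ℕ} [Fact p.Prime] [Finite S]

/-- `φ` extends to a map on `P Q` moving each element of `Q` by an element of `T ∩ Q`. -/
def ModExt (F : FusionSystem S) (T Q P : Subgroup Ω) (φ : P →* Ω) : Prop :=
  ∃ ψ ∈ F.Hom (P ⊔ Q), (∀ x : P, ψ (Subgroup.inclusion le_sup_left x) = φ x) ∧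
    ∀ q : Q, (q : Ω)⁻¹ * ψ (Subgroup.inclusion le_sup_right q) ∈ T ⊓ Q

theorem ModExt.congr {P : Subgroup Ω} {φ χ : P →* Ω} (h : ModExt F T Q P φ)
    (hx : ∀ x, χ x = φ x) : ModExt F T Q P χ := by
  rwa [MonoidHom.ext hx]

theorem ModExt.apply_mem {P : Subgroup Ω} {φ : P →* Ω} {ψ : ↥(P ⊔ Q) →* Ω}
    (hq : ∀ q : Q, (q : Ω)⁻¹ * ψ (Subgroup.inclusion le_sup_right q) ∈ T ⊓ Q) (q : Q) :
    ψ (Subgroup.inclusion le_sup_right q) ∈ Q := by
  have h := Q.mul_mem q.2 (hq q).2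
  rwa [mul_inv_cancel_left] at h

theorem ModExt.restrict {P R : Subgroup Ω} {φ : P →* Ω} {χ : R →* Ω} (h : ModExt F T Q P φ)
    (hR : R ≤ P) (hx : ∀ x : R, χ x = φ ⟨x, hR x.2⟩) : ModExt F T Q R χ := by
  obtain ⟨ψ, hψ, h₁, h₂⟩ := h
  refine ⟨_, restrict_mem hψ (sup_le_sup_right hR Q),
    fun x => ((congrArg ψ (Subtype.ext rfl)).trans (h₁ (Subgroup.inclusion hR x))).trans (hx x).symm,
    fun q => ?_⟩
  have e : (ψ.comp (Subgroup.inclusion (sup_le_sup_right hR Q))) (Subgroup.inclusion le_sup_right q) =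
      ψ (Subgroup.inclusion le_sup_right q) := congrArg ψ (Subtype.ext rfl)
  rw [e]
  exact h₂ q

theorem ModExt.comp (hT : F.StronglyClosed T) (hQ : F.StronglyClosed Q) {P R : Subgroup Ω}
    {φ : P →* Ω} {χ : R →* Ω} {τ : P →* Ω}
    (h₁ : ModExt F T Q P φ) (h₂ : ModExt F T Q R χ) (h : ∀ x : P, φ x ∈ R)
    (hτ : ∀ x : P, τ x = χ ⟨φ x, h x⟩) : ModExt F T Q P τ := by
  obtain ⟨ψ₁, hψ₁, hx₁, hq₁⟩ := h₁
  obtain ⟨ψ₂, hψ₂, hx₂, hq₂⟩ := h₂
  have hm : ∀ z, ψ₁ z ∈ R ⊔ Q := apply_mem_of_sup ψ₁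
    (fun x => Subgroup.mem_sup_left (by rw [hx₁]; exact h x))
    (fun q => Subgroup.mem_sup_right (ModExt.apply_mem (φ := φ) hq₁ q))
  refine ⟨ψ₂.comp (ψ₁.codRestrict _ hm), F.comp_mem hψ₁ hψ₂ hm, fun x => ?_, fun q => ?_⟩
  · rw [hτ, ← hx₂]
    exact congrArg ψ₂ (Subtype.ext (hx₁ x))
  · set w : Q := ⟨_, (hq₁ q).2⟩ with hw
    have e : (ψ₁.codRestrict _ hm) (Subgroup.inclusion le_sup_right q) =
        Subgroup.inclusion le_sup_right q * Subgroup.inclusion le_sup_right w :=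
      Subtype.ext (by simp [hw])
    show (q : Ω)⁻¹ * ψ₂ ((ψ₁.codRestrict _ hm) _) ∈ T ⊓ Q
    rw [e, map_mul, ← mul_assoc]
    exact mul_mem (hq₂ q) ⟨stronglyClosed_apply hT hψ₂ _ (hq₁ q).1,
      stronglyClosed_apply hQ hψ₂ _ (hq₁ q).2⟩

theorem ModExt.inv {P R : Subgroup Ω} {φ : P →* Ω} {θ : R →* Ω} (hQS : Q ≤ S) (h : ModExt F T Q P φ)
    (hr : φ.range = R) (hθ : ∀ (x : P) (hx : φ x ∈ R), θ ⟨φ x, hx⟩ = x) : ModExt F T Q R θ := by
  subst hr
  obtain ⟨ψ, hψ, hx, hq⟩ := h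
  obtain ⟨ψ', hψ', -, hψ'x, -⟩ := exists_inverse hψ rfl
  haveI := finite_of_le hQS
  let g : Q →* Q := (ψ.comp (Subgroup.inclusion le_sup_right)).codRestrict Q
    fun q => ModExt.apply_mem (φ := φ) hq q
  have hg : Function.Surjective g := Finite.injective_iff_surjective.mp fun a b hab =>
    Subgroup.inclusion_injective _ (F.injective_of_mem hψ (congrArg Subtype.val hab))
  have hle : φ.range ⊔ Q ≤ ψ.range := by
    refine sup_le ?_ fun y hy => ?_
    · rintro _ ⟨x, rfl⟩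
      exact ⟨_, hx x⟩
    · obtain ⟨q, hq'⟩ := hg ⟨y, hy⟩
      exact ⟨_, congrArg Subtype.val hq'⟩
  refine ⟨_, restrict_mem hψ' hle, ?_, fun y => ?_⟩
  · rintro ⟨_, x, rfl⟩
    rw [hθ x ⟨x, rfl⟩]
    refine Eq.trans (congrArg ψ' (Subtype.ext ?_))
      (hψ'x (Subgroup.inclusion le_sup_left x) ⟨_, rfl⟩)
    exact (hx x).symm
  · obtain ⟨q, rfl⟩ := hg y
    have e : (ψ'.comp (Subgroup.inclusion hle)) (Subgroup.inclusion le_sup_right (g q)) = (q : Ω) :=
      (congrArg ψ' (Subtype.ext rfl)).trans (hψ'x (Subgroup.inclusion le_sup_right q) ⟨_, rfl⟩)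
    rw [e]
    have h1 := inv_mem (hq q)
    rwa [mul_inv_rev, inv_inv] at h1

theorem closed_modExt (hT : F.StronglyClosed T) (hQ : F.StronglyClosed Q) :
    Closed E (ModExt F T Q) where
  restrict hR _ h := h.restrict hR fun _ => rfl
  comp _ _ hm h₁ h₂ := h₁.comp hT hQ h₂ hm fun _ => rfl
  inv _ _ hr hψx h := h.inv hQ.1 hr hψx

/-- The automorphisms of `P` with such an extension. -/
def goodGroup (hT : F.StronglyClosed T) (hQ : F.StronglyClosed Q) (P : Subgroup Ω) (hP : P ≤ S) :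
    Subgroup (MulAut P) where
  carrier := {a | ModExt F T Q P (P.subtype.comp a.toMonoidHom)}
  one_mem' := ⟨_, incl_mem F (sup_le hP hQ.1), fun _ => rfl, fun q => by simp⟩
  mul_mem' {a b} ha hb := hb.comp hT hQ ha (fun x => (b x).2) fun _ => rfl
  inv_mem' {a} ha := ha.inv hQ.1 (range_subtype_comp_aut a) fun x hx => by
    show (((a⁻¹ : MulAut P) (a x) : P) : Ω) = x
    rw [MulAut.inv_apply_self]

theorem mem_goodGroup {hT : F.StronglyClosed T} {hQ : F.StronglyClosed Q} {P : Subgroup Ω}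
    {hP : P ≤ S} {a : MulAut P} :
    a ∈ goodGroup hT hQ P hP ↔ ModExt F T Q P (P.subtype.comp a.toMonoidHom) := Iff.rfl

/-- An element with two good powers of coprime exponents is good. -/
theorem mem_of_coprime_pows {G : Type*} [Group G] {H : Subgroup G} {x : G} {a b : ℕ}
    (ha : x ^ a ∈ H) (hb : x ^ b ∈ H) (hab : a.Coprime b) : x ∈ H := by
  have h := Nat.gcd_eq_gcd_ab a b
  rw [hab.gcd_eq_one, Nat.cast_one] at h
  rw [← zpow_one x, h, zpow_add, zpow_mul, zpow_mul, zpow_natCast, zpow_natCast]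
  exact mul_mem (zpow_mem ha _) (zpow_mem hb _)

/-- Elements of `p`-power order of `Aut_E(P)` are good, `P` fully normalized in `E`. -/
theorem pElement_mem (hS : IsPGroup p S) (hE : E.IsWeaklyNormalIn F p) (hQ : F.IsNormal Q)
    {P : Subgroup Ω} (hP : E.IsFullyNormalized P) {a : MulAut P} (ha : a ∈ E.autGroup P) {k : ℕ}
    (hk : a ^ p ^ k = 1) :
    ModExt F T Q P (P.subtype.comp a.toMonoidHom) := by
  have hT := hE.2.2.2.1
  have hQc := isNormal_stronglyClosed hQ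
  haveI := finite_of_le hT.1
  haveI := finite_autGroup E hP.1
  have hPS : P ≤ S := hP.1.trans hT.1
  obtain ⟨-, -, R, hR⟩ := centralized_automized_of_fullyNormalized (isPGroup_of_le hS hT.1) hE.1 hP
  set a' : E.autGroup P := ⟨a, ha⟩
  have hzp : IsPGroup p (Subgroup.zpowers a') := fun z => by
    obtain ⟨n, hn⟩ := z.2
    refine ⟨k, Subtype.ext ?_⟩
    have h1 : a' ^ p ^ k = 1 := Subtype.ext hk
    show (z : E.autGroup P) ^ p ^ k = 1
    rw [← hn, ← zpow_natCast, ← zpow_mul, mul_comm, zpow_mul, zpow_natCast, h1, one_zpow]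
  obtain ⟨R', hR'⟩ := hzp.exists_le_sylow
  obtain ⟨g, hg⟩ := MulAction.exists_smul_eq (E.autGroup P) R R'
  have hmem := hR' (Subgroup.mem_zpowers a')
  rw [← hg, Sylow.coe_subgroup_smul] at hmem
  obtain ⟨c, hc, hca⟩ := hmem
  have hc' : c ∈ (R : Subgroup (E.autGroup P)) := hc
  rw [hR, Subgroup.mem_subgroupOf] at hc'
  obtain ⟨t, ht, htx⟩ := mem_autInducedBy_iff.mp hc'
  have hgF : ((g : MulAut P)) ∈ F.autGroup P := autGroup_mono hE.2.2.1 P g.2
  obtain ⟨ψ, hψ, hψx, hψQ⟩ := hQ.2 P _ ((mem_autGroup_iff F hPS).mp hgF)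
  have hXS : P ⊔ Q ≤ S := sup_le hPS hQ.1
  haveI := finite_of_le hXS
  obtain ⟨β, hβ, hβx⟩ := exists_aut_of_hom' F hψ (apply_mem_of_sup ψ
    (fun x => Subgroup.mem_sup_left (by rw [hψx]; exact ((g : MulAut P) x).2))
    fun q => Subgroup.mem_sup_right (hψQ.le ⟨_, q.2, rfl⟩))
  have htN : t ∈ Subgroup.normalizer ((P ⊔ Q : Subgroup Ω) : Set Ω) := by
    refine Subgroup.mem_normalizer_fintype fun z hz => ?_
    let f : ↥(P ⊔ Q) →* Ω := conjHom _ t
    exact apply_mem_of_sup f (fun x => Subgroup.mem_sup_left (by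
        show t * (x : Ω) * t⁻¹ ∈ P
        rw [← htx x]; exact ((c : MulAut P) x).2))
      (fun q => Subgroup.mem_sup_right (stronglyClosed_conj hQc (hT.1 ht) q.2)) ⟨z, hz⟩
  set γ := β * conjAut (P ⊔ Q) t htN * β⁻¹ with hγ
  have hγF : γ ∈ F.autGroup (P ⊔ Q) := mul_mem (mul_mem hβ
    (autInducedBy_le_autGroup F hXS (conjAut_mem (hT.1 ht) htN))) (inv_mem hβ)
  have hβP : ∀ x : P, β (Subgroup.inclusion le_sup_left x) =
      Subgroup.inclusion le_sup_left ((g : MulAut P) x) := fun x =>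
    Subtype.ext ((hβx _).trans (hψx x))
  refine ⟨_, (mem_autGroup_iff F hXS).mp hγF, fun x => ?_, fun q => ?_⟩
  · show ((γ (Subgroup.inclusion le_sup_left x) : ↥(P ⊔ Q)) : Ω) = _
    have h1 : β⁻¹ (Subgroup.inclusion le_sup_left x) =
        Subgroup.inclusion le_sup_left ((g : MulAut P)⁻¹ x) := by
      apply β.injective
      rw [hβP, MulAut.apply_inv_self, MulAut.apply_inv_self]
    have h2 : conjAut (P ⊔ Q) t htN (Subgroup.inclusion le_sup_left ((g : MulAut P)⁻¹ x)) =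
        Subgroup.inclusion le_sup_left ((c : MulAut P) ((g : MulAut P)⁻¹ x)) :=
      Subtype.ext (htx _).symm
    rw [hγ, MulAut.mul_apply, MulAut.mul_apply, h1, h2, hβP]
    have h3 : a = (g : MulAut P) * (c : MulAut P) * (g : MulAut P)⁻¹ := (congrArg Subtype.val hca).symm
    rw [h3]
    rfl
  · set q₁ := Subgroup.inclusion (le_sup_right : Q ≤ P ⊔ Q) q
    set q₀ := β⁻¹ q₁ with hq₀
    have hβq : β q₀ = q₁ := by rw [hq₀, MulAut.apply_inv_self]
    have hβF := (mem_autGroup_iff F hXS).mp hβ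
    have hq₀Q : (q₀ : Ω) ∈ Q :=
      stronglyClosed_apply hQc ((mem_autGroup_iff F hXS).mp (inv_mem hβ)) _ q.2
    set w := q₀⁻¹ * conjAut (P ⊔ Q) t htN q₀ with hw
    have hwTQ : (w : Ω) ∈ T ⊓ Q := by
      have e : (w : Ω) = (q₀ : Ω)⁻¹ * t * q₀ * t⁻¹ := by
        show (q₀ : Ω)⁻¹ * (t * q₀ * t⁻¹) = _
        group
      refine ⟨?_, Q.mul_mem (Q.inv_mem hq₀Q) (stronglyClosed_conj hQc (hT.1 ht) hq₀Q)⟩
      rw [e]
      have h1 := stronglyClosed_conj hT (S.inv_mem (hQ.1 hq₀Q)) ht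
      rw [inv_inv] at h1
      exact T.mul_mem h1 (T.inv_mem ht)
    have h4 : γ q₁ = q₁ * β w := by
      rw [hγ, MulAut.mul_apply, MulAut.mul_apply, ← hq₀, ← hβq, ← map_mul, hw, mul_inv_cancel_left]
    show (q : Ω)⁻¹ * ((γ q₁ : ↥(P ⊔ Q)) : Ω) ∈ T ⊓ Q
    rw [h4, Subgroup.coe_mul, show (q₁ : Ω) = q from rfl, inv_mul_cancel_left]
    exact ⟨stronglyClosed_apply hT hβF w hwTQ.1, stronglyClosed_apply hQc hβF w hwTQ.2⟩

/-- Every automorphism in `Aut_E(T)` is good. -/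
theorem top_mem (hS : IsPGroup p S) (hE : E.IsNormalIn F p) (hQ : F.IsNormal Q) {α : MulAut T}
    (hα : α ∈ E.autGroup T) : ModExt F T Q T (T.subtype.comp α.toMonoidHom) := by
  obtain ⟨hw, hext⟩ := hE
  have hTc := hw.2.2.2.1
  have hQc := isNormal_stronglyClosed hQ
  haveI := finite_of_le hTc.1
  haveI := finite_autGroup E (le_refl T)
  have hTp := isPGroup_of_le hS hTc.1
  have hfn : E.IsFullyNormalized T := isFullyNormalized_top E
  have hgood : α ∈ goodGroup hTc hQc T hTc.1 := by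
    obtain ⟨k, m, hkm, hm⟩ := CfsgLib.FusionExamples.exists_coprime_power (p := p)
      (⟨α, hα⟩ : E.autGroup T)
    obtain ⟨e, he⟩ := IsPGroup.iff_card.mp hS
    refine mem_of_coprime_pows (a := p ^ e) (b := m) ?_ ?_ (hm.symm.pow_left e)
    swap
    · refine pElement_mem hS hw hQ hfn (pow_mem hα m) (k := k) ?_
      rw [← pow_mul, mul_comm, pow_mul]
      exact congrArg Subtype.val hkm
    -- the power of an extension
    set C := centralizerIn S T with hCdef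
    obtain ⟨β, hβ, hβx, hβc⟩ := hext α hα
    have hX0 : T ⊔ C ≤ S := sup_le hTc.1 (centralizerIn_le S T)
    set X := T ⊔ C ⊔ Q with hX
    obtain ⟨ψ, hψ, hψx, hψQ⟩ := hQ.2 (T ⊔ C) _ ((mem_autGroup_iff F hX0).mp hβ)
    have hXS : X ≤ S := sup_le hX0 hQ.1
    haveI := finite_of_le hXS
    obtain ⟨Ψ, hΨ, hΨx⟩ := exists_aut_of_hom' F hψ (apply_mem_of_sup ψ
      (fun x => Subgroup.mem_sup_left (by rw [hψx]; exact (β x).2))
      fun q => Subgroup.mem_sup_right (hψQ.le ⟨_, q.2, rfl⟩))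
    have iT : T ≤ X := le_sup_left.trans le_sup_left
    have iC : C ≤ X := le_sup_right.trans le_sup_left
    have iQ : Q ≤ X := le_sup_right
    have hΨF := (mem_autGroup_iff F hXS).mp hΨ
    have hΨT : ∀ x : T, ((Ψ (Subgroup.inclusion iT x) : X) : Ω) = α x := fun x => by
      rw [hΨx]
      refine Eq.trans ?_ (hβx x)
      exact (congrArg ψ (Subtype.ext rfl)).trans (hψx (Subgroup.inclusion le_sup_left x))
    have hconjT : ∀ (x : X) (u : Ω), u ∈ T → (x : Ω)⁻¹ * u * x ∈ T := fun x u hu => by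
      have h := stronglyClosed_conj hTc (S.inv_mem (hXS x.2)) hu
      rwa [inv_inv] at h
    -- elements moved inside their coset of `T`
    let M : Subgroup X :=
      { carrier := {x | (x : Ω)⁻¹ * (Ψ x : X) ∈ T}
        one_mem' := by simp
        mul_mem' := fun {x y} hx hy => by
          show ((x * y : X) : Ω)⁻¹ * (Ψ (x * y) : X) ∈ T
          have h := T.mul_mem (hconjT y _ hx) hy
          rwa [show (y : Ω)⁻¹ * ((x : Ω)⁻¹ * (Ψ x : X)) * y * ((y : Ω)⁻¹ * (Ψ y : X)) =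
            ((x : Ω) * y)⁻¹ * ((Ψ x : X) * (Ψ y : X) : Ω) by group, ← Subgroup.coe_mul,
            ← Subgroup.coe_mul, ← map_mul] at h
        inv_mem' := fun {x} hx => by
          show ((x⁻¹ : X) : Ω)⁻¹ * (Ψ x⁻¹ : X) ∈ T
          have h := hconjT x⁻¹ _ (T.inv_mem hx)
          rw [map_inv, Subgroup.coe_inv, Subgroup.coe_inv]
          rwa [Subgroup.coe_inv, show ((x : Ω)⁻¹)⁻¹ * ((x : Ω)⁻¹ * (Ψ x : X))⁻¹ * (x : Ω)⁻¹ =
            ((x : Ω)⁻¹)⁻¹ * ((Ψ x : X) : Ω)⁻¹ by group] at h }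
    have hM0 : ∀ z : X, (z : Ω) ∈ T ⊔ C → z ∈ M := by
      suffices h : T ⊔ C ≤ M.map X.subtype by
        intro z hz
        obtain ⟨z', hz', he⟩ := h hz
        rwa [← Subtype.ext he]
      refine sup_le (fun x hx => ⟨⟨x, iT hx⟩, ?_, rfl⟩) fun x hx => ⟨⟨x, iC hx⟩, ?_, rfl⟩
      · show x⁻¹ * (Ψ (Subgroup.inclusion iT ⟨x, hx⟩) : X) ∈ T
        rw [hΨT]
        exact T.mul_mem (T.inv_mem hx) (α _).2
      · show x⁻¹ * (Ψ ⟨x, iC hx⟩ : X) ∈ T
        rw [hΨx]
        have h := hβc ⟨x, Subgroup.mem_sup_right hx⟩ hx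
        rw [show (ψ (⟨x, iC hx⟩ : X) : Ω) = β ⟨x, Subgroup.mem_sup_right hx⟩ from
          (congrArg ψ (Subtype.ext rfl)).trans (hψx ⟨x, Subgroup.mem_sup_right hx⟩)]
        exact h.1
    have hΨQ : ∀ q : X, (q : Ω) ∈ Q → ((Ψ q : X) : Ω) ∈ Q := fun q hq =>
      stronglyClosed_apply hQc hΨF q hq
    -- the commutator of `Ψ` with an element of `Q` lies in `T C`
    have hstep : ∀ q : X, (q : Ω) ∈ Q → ((q⁻¹ * Ψ q : X) : Ω) ∈ T ⊔ C := by
      intro q hq
      set z := Ψ q * q⁻¹ with hz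
      suffices hz' : (z : Ω) ∈ T ⊔ C by
        have hq' : q⁻¹ * Ψ q = q⁻¹ * z * q := by rw [hz]; group
        rw [hq', Subgroup.coe_mul, Subgroup.coe_mul, Subgroup.coe_inv]
        let f : ↥(T ⊔ C) →* Ω := conjHom _ (q : Ω)⁻¹
        have h := apply_mem_of_sup f (U := T ⊔ C)
          (fun x => Subgroup.mem_sup_left (by
            show (q : Ω)⁻¹ * x * (q : Ω)⁻¹⁻¹ ∈ T
            rw [inv_inv]; exact hconjT q x x.2))
          (fun x => Subgroup.mem_sup_right ⟨S.mul_mem (S.mul_mem (S.inv_mem (hXS q.2))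
            (x.2.1)) (S.inv_mem (S.inv_mem (hXS q.2))), fun u hu => by
              have hu' : (q : Ω) * u * (q : Ω)⁻¹ ∈ T :=
                stronglyClosed_conj hTc (hXS q.2) hu
              have h1 := x.2.2 _ hu'
              show u * ((q : Ω)⁻¹ * x * (q : Ω)⁻¹⁻¹) = (q : Ω)⁻¹ * x * (q : Ω)⁻¹⁻¹ * u
              calc u * ((q : Ω)⁻¹ * x * (q : Ω)⁻¹⁻¹)
                  = (q : Ω)⁻¹ * ((q : Ω) * u * (q : Ω)⁻¹ * x) * q := by group
                _ = (q : Ω)⁻¹ * ((x : Ω) * ((q : Ω) * u * (q : Ω)⁻¹)) * q := by rw [h1]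
                _ = (q : Ω)⁻¹ * x * (q : Ω)⁻¹⁻¹ * u := by group⟩) ⟨_, hz'⟩
        have h' : (q : Ω)⁻¹ * z * (q : Ω)⁻¹⁻¹ ∈ T ⊔ C := h
        rwa [inv_inv] at h'
      have hqS : (q : Ω) ∈ S := hXS q.2
      have hzS : (z : Ω) ∈ S := hXS z.2
      have hqN : (q : Ω) ∈ Subgroup.normalizer (T : Set Ω) :=
        stronglyClosed_le_normalizer hTc hqS
      have hzN : (z : Ω) ∈ Subgroup.normalizer (T : Set Ω) :=
        stronglyClosed_le_normalizer hTc hzS
      set cq := conjAut T (q : Ω) hqN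
      have hcqF : cq ∈ F.autGroup T := autInducedBy_le_autGroup F hTc.1 (conjAut_mem hqS hqN)
      have hcz : conjAut T (z : Ω) hzN = α * (cq * α⁻¹ * cq⁻¹) := by
        refine MulEquiv.ext fun x => Subtype.ext ?_
        obtain ⟨y, rfl⟩ := (cq * α).surjective x
        have e : (α * (cq * α⁻¹ * cq⁻¹)) ((cq * α) y) = α (cq y) := by simp [MulAut.mul_apply]
        rw [e]
        show (z : Ω) * ((cq (α y) : T) : Ω) * (z : Ω)⁻¹ = _
        have h1 : Subgroup.inclusion iT (cq y) = q * Subgroup.inclusion iT y * q⁻¹ := Subtype.ext rfl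
        rw [← hΨT (cq y), h1]
        simp only [map_mul, map_inv, Subgroup.coe_mul, Subgroup.coe_inv, hΨT]
        show ((z : X) : Ω) * ((q : Ω) * (α y : Ω) * (q : Ω)⁻¹) * (z : Ω)⁻¹ = _
        rw [hz, Subgroup.coe_mul, Subgroup.coe_inv]
        group
      have hzA : conjAut T (z : Ω) hzN ∈ E.autGroup T := by
        rw [hcz]
        exact mul_mem hα (conj_mem_autGroup_of_isInvariantIn hw.2.2 le_rfl hcqF (inv_mem hα))
      obtain ⟨-, -, R, hR⟩ := centralized_automized_of_fullyNormalized hTp hw.1 hfn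
      haveI : (R : Subgroup (E.autGroup T)).Normal := by
        refine ⟨fun r hr g => ?_⟩
        rw [hR, Subgroup.mem_subgroupOf] at hr ⊢
        obtain ⟨t, ht, htx⟩ := mem_autInducedBy_iff.mp hr
        refine mem_autInducedBy_iff.mpr ⟨((g : MulAut T) ⟨t, ht⟩ : T), ((g : MulAut T) _).2, fun x => ?_⟩
        have e : (r : MulAut T) ((g : MulAut T)⁻¹ x) = ⟨t, ht⟩ * (g : MulAut T)⁻¹ x * ⟨t, ht⟩⁻¹ :=
          Subtype.ext (htx _)
        show (((g : MulAut T) * (r : MulAut T) * (g : MulAut T)⁻¹) x : Ω) = _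
        rw [MulAut.mul_apply, MulAut.mul_apply, e, map_mul, map_mul, map_inv, MulAut.apply_inv_self]
        rfl
      set z' : E.autGroup T := ⟨_, hzA⟩
      have hz'p : IsPGroup p (Subgroup.zpowers z') := by
        obtain ⟨j, hj⟩ := isPGroup_autInducedBy hS T ⟨_, conjAut_mem hzS hzN⟩
        intro w
        obtain ⟨n, hn⟩ := w.2
        refine ⟨j, Subtype.ext ?_⟩
        have h1 : z' ^ p ^ j = 1 := Subtype.ext (congrArg Subtype.val hj :)
        show (w : E.autGroup T) ^ p ^ j = 1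
        rw [← hn, ← zpow_natCast, ← zpow_mul, mul_comm, zpow_mul, zpow_natCast, h1, one_zpow]
      obtain ⟨R', hR'⟩ := hz'p.exists_le_sylow
      haveI : Unique (Sylow p (E.autGroup T)) := R.unique_of_normal inferInstance
      rw [Subsingleton.elim R' R] at hR'
      have hzR := hR' (Subgroup.mem_zpowers z')
      rw [hR, Subgroup.mem_subgroupOf] at hzR
      obtain ⟨t, ht, htx⟩ := mem_autInducedBy_iff.mp hzR
      rw [← mul_inv_cancel_left t (z : Ω)]
      refine mul_mem (Subgroup.mem_sup_left ht) (Subgroup.mem_sup_right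
        ⟨S.mul_mem (S.inv_mem (hTc.1 ht)) hzS, fun x hx => ?_⟩)
      have h1 : (z : Ω) * x * (z : Ω)⁻¹ = t * x * t⁻¹ := htx ⟨x, hx⟩
      calc x * (t⁻¹ * (z : Ω)) = t⁻¹ * (t * x * t⁻¹) * (z : Ω) := by group
        _ = t⁻¹ * ((z : Ω) * x * (z : Ω)⁻¹) * (z : Ω) := by rw [h1]
        _ = t⁻¹ * (z : Ω) * x := by group
    -- iterate
    have hiter : ∀ (q : X) (hq : (q : Ω) ∈ Q) (n : ℕ),
        ((((q⁻¹ * Ψ q) ^ n)⁻¹ * (q⁻¹ * (Ψ ^ n) q) : X) : Ω) ∈ T := by
      intro q hq n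
      induction n with
      | zero => simp
      | succ n ih =>
        set w := q⁻¹ * Ψ q with hw'
        set u := (w ^ n)⁻¹ * (q⁻¹ * (Ψ ^ n) q) with hu
        have e1 : (Ψ ^ n) q = q * w ^ n * u := by rw [hu]; group
        have e2 : (Ψ ^ (n + 1)) q = q * w * Ψ (w ^ n) * Ψ u := by
          rw [pow_succ', MulAut.mul_apply, e1, map_mul, map_mul, hw', mul_inv_cancel_left]
        have hwn : w ^ n ∈ M := pow_mem (hM0 w (hstep q hq)) n
        have hΨu : ((Ψ u : X) : Ω) ∈ T := stronglyClosed_apply hTc hΨF u ih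
        have e3 : (w ^ (n + 1))⁻¹ * (q⁻¹ * (Ψ ^ (n + 1)) q) = (w ^ n)⁻¹ * Ψ (w ^ n) * Ψ u := by
          rw [e2, pow_succ']; group
        rw [e3, Subgroup.coe_mul, Subgroup.coe_mul, Subgroup.coe_inv]
        exact T.mul_mem hwn hΨu
    have hpow : ∀ x : T, ((Ψ ^ p ^ e) (Subgroup.inclusion iT x) : Ω) = ((α ^ p ^ e) x : T) := by
      suffices h : ∀ (n : ℕ) (x : T), (Ψ ^ n) (Subgroup.inclusion iT x) =
          Subgroup.inclusion iT ((α ^ n) x) from fun x => congrArg Subtype.val (h _ x)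
      intro n
      induction n with
      | zero => intro x; simp
      | succ n ih =>
        intro x
        rw [pow_succ', MulAut.mul_apply, ih, pow_succ', MulAut.mul_apply]
        exact Subtype.ext (hΨT _)
    have hYF := (mem_autGroup_iff F hXS).mp (pow_mem hΨ (p ^ e))
    have hle : T ⊔ Q ≤ X := sup_le iT iQ
    refine ⟨_, restrict_mem hYF hle, fun x => hpow x, fun q => ?_⟩
    set q' := Subgroup.inclusion iQ q
    have e4 : ((Ψ ^ p ^ e) q' : Ω) ∈ Q := stronglyClosed_apply hQc hYF q' q.2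
    refine ⟨?_, Q.mul_mem (Q.inv_mem q.2) e4⟩
    have h := hiter q' q.2 (p ^ e)
    have hw1 : (q'⁻¹ * Ψ q') ^ p ^ e = 1 := by
      refine Subtype.ext ?_
      rw [Subgroup.coe_pow, Subgroup.coe_one]
      have hsS : ((q'⁻¹ * Ψ q' : X) : Ω) ∈ S := hXS (q'⁻¹ * Ψ q').2
      have h5 : (⟨_, hsS⟩ : S) ^ p ^ e = 1 := he ▸ pow_card_eq_one'
      exact congrArg Subtype.val h5
    rw [hw1, inv_one, one_mul] at h
    exact h
  exact hgood

/-- Maps of a normal subsystem over `T` extend over a normal subgroup `Q`, trivially modulo `T`. -/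
theorem modExt_of_mem (hS : IsPGroup p S) (hE : E.IsNormalIn F p) (hQ : F.IsNormal Q)
    {P : Subgroup Ω} {φ : P →* Ω} (hφ : φ ∈ E.Hom P) : ModExt F T Q P φ := by
  have hw := hE.1
  have hT := hw.2.2.2.1
  have hQc := isNormal_stronglyClosed hQ
  haveI := finite_of_le hT.1
  have hTp := isPGroup_of_le hS hT.1
  refine closed_induction hTp hw.1 (closed_modExt hT hQc) (fun R hR big α hα => ?_) hφ
  rcases eq_or_lt_of_le hR.1 with rfl | hlt
  · exact top_mem hS hE hQ hα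
  set K : Subgroup (MulAut R) :=
    Subgroup.closure {β : MulAut R | β ∈ E.autGroup R ∧ ∃ k : ℕ, β ^ p ^ k = 1} with hK
  have hKn : ∀ a ∈ E.autGroup R, ∀ κ ∈ K, a * κ * a⁻¹ ∈ K := by
    intro a ha κ hκ
    induction hκ using Subgroup.closure_induction with
    | mem x hx =>
      obtain ⟨hxE, k, hk⟩ := hx
      exact Subgroup.subset_closure ⟨mul_mem (mul_mem ha hxE) (inv_mem ha), k,
        by rw [conj_pow, hk, mul_one, mul_inv_cancel]⟩
    | one => simp
    | mul x y _ _ hx hy =>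
      have := K.mul_mem hx hy
      rwa [show a * x * a⁻¹ * (a * y * a⁻¹) = a * (x * y) * a⁻¹ by group] at this
    | inv x _ hx =>
      have := K.inv_mem hx
      rwa [show (a * x * a⁻¹)⁻¹ = a * x⁻¹ * a⁻¹ by group] at this
  have hKgood : K ≤ goodGroup hT hQc R (hR.1.trans hT.1) := (Subgroup.closure_le _).mpr
    fun x ⟨hx, k, hk⟩ => pElement_mem hS hw hQ hR hx hk
  obtain ⟨κ, hκ, χ, hχ, rfl, U, hRU, ψ, hU, hψ, hψx, hUge⟩ :=
    frattini_extend hTp hw.1 hR K hKn hα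
  have hlt' : R < U := by
    obtain ⟨g, hg, hgR⟩ := SetLike.exists_of_lt (lt_normalizerIn hTp hlt)
    refine lt_of_le_of_ne hRU fun h => hgR (h.ge (hUge g hg.1 hg.2 (Subgroup.subset_closure ?_)))
    have hm := autInducedBy_le_autGroup E hR.1 (conjAut_mem hg.1 hg.2)
    obtain ⟨k, hk⟩ := isPGroup_autInducedBy hTp R ⟨_, conjAut_mem hg.1 hg.2⟩
    exact ⟨hm, k, congrArg Subtype.val hk⟩
  have hχgood : χ ∈ goodGroup hT hQc R (hR.1.trans hT.1) :=
    (big U ψ hψ (card_lt_card (hU.trans (normalizerIn_le T R)) hlt')).restrict hRU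
      fun x => (hψx x).symm
  exact mul_mem (hKgood hκ.1) hχgood

/-- The intersection of a normal subgroup with `T` is normal in a subsystem over `T`. -/
theorem isNormal_inf (hS : IsPGroup p S) (hEs : E.IsSaturated p) (hEF : E.IsSubsystemOf F)
    (hQ : F.IsNormal Q) : E.IsNormal (Q ⊓ T) := by
  have hTS : T ≤ S := subsystem_le hEF
  haveI := finite_of_le hTS
  haveI := finite_of_le hQ.1
  obtain ⟨n, Qs, h0, hlast, -, hchar, hc⟩ := exists_central_series (isPGroup_of_le hS hQ.1)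
  refine isNormal_of_central_series (isPGroup_of_le hS hTS) hEs (Q ⊓ T) (fun i => Qs i ⊓ T)
    (by simp [h0]) (by simp [hlast]) (fun i => ?_) fun i => ?_
  · refine ⟨inf_le_right, fun R hR φ hφ x => ⟨?_, (apply_mem hφ x)⟩⟩
    exact (stronglyClosed_of_characteristic hQ (hchar i.succ).1 (hchar i.succ).2).2 R
      (hR.trans inf_le_left) φ (hEF R hφ) x
  · refine le_inf ((Subgroup.commutator_mono inf_le_left inf_le_left).trans (hc i)) ?_
    exact (Subgroup.commutator_mono inf_le_right inf_le_right).trans (Subgroup.commutator_le_self T)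

end CfsgLib.FusionSub.CoreModExt
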