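import Cfsg.Agent.Lib.FusionSub.LocallyInner
import Cfsg.Agent.Lib.FusionSub.NormalizerFree

/-!
Systems in which the automizers of characteristic subgroups of `S` are `p`-groups; extensions of
inner systems by normal subgroups with inner automizer.
-/

set_option autoImplicit false
set_option linter.style.haveILetI false

namespace CfsgLib.FusionSub

open Cfsg Cfsg.FusionSystem CfsgLib.Alperin CfsgLib.FusionModels
open scoped commutatorElement

universe u

variable {Ω : Type u} [Group Ω] {S : Subgroup Ω} {p : ℕ} [Fact p.Prime]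

/-- If `Aut_F(Q)` is a `p`-group for a fully normalized `Q`, maps of `Q` onto itself are
conjugations by elements of `S`. -/
theorem exists_conj_of_isPGroup_autGroup [Finite S] (hS : IsPGroup p S) {F : FusionSystem S}
    (hF : F.IsSaturated p) {Q : Subgroup Ω} (hQ : F.IsFullyNormalized Q)
    (hp : IsPGroup p (F.autGroup Q)) {φ : Q →* Ω} (hφ : φ ∈ F.Hom Q) (hr : φ.range = Q) :
    ∃ s ∈ S, ∀ x : Q, φ x = s * (x : Ω) * s⁻¹ := by
  haveI := finite_of_le hQ.1
  haveI := finite_autGroup F hQ.1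
  obtain ⟨α, hα, hαφ⟩ := exists_aut_of_hom F hφ hr
  obtain ⟨-, R, hR⟩ := (centralized_automized_of_fullyNormalized hS hF hQ).2
  have htop : (R : Subgroup (F.autGroup Q)) = ⊤ := (R.is_maximal' (hp.to_subgroup ⊤) le_top).symm
  have h1 : (⟨α, hα⟩ : F.autGroup Q) ∈ (autInducedBy S Q).subgroupOf (F.autGroup Q) := by
    rw [← hR, htop]
    exact Subgroup.mem_top _
  obtain ⟨s, hs, hsx⟩ := mem_autInducedBy_iff.mp (Subgroup.mem_subgroupOf.mp h1)
  exact ⟨s, hs, fun x => (hαφ x).symm.trans (hsx x)⟩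

/-- An extension of an inner system by a normal subgroup with inner automizer is inner, if also
the automizer of `S` is inner. -/
theorem inner_of_factor_inner [Finite S] (hS : IsPGroup p S) {F : FusionSystem S}
    (hF : F.IsSaturated p) {Y : Subgroup Ω} (hY : F.IsNormal Y)
    (hYaut : ∀ φ ∈ F.Hom Y, ∃ s ∈ S, ∀ x : Y, φ x = s * (x : Ω) * s⁻¹)
    (hSaut : ∀ φ ∈ F.Hom S, ∃ s ∈ S, ∀ x : S, φ x = s * (x : Ω) * s⁻¹)
    {Ω' : Type u} [Group Ω'] {θ : ↥S →* Ω'} {E : FusionSystem θ.range}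
    (hE : F.IsFactorSystem Y θ E)
    (hin : ∀ P, E.Hom P = (innerFusionSystem θ.range).Hom P) :
    ∀ P : Subgroup Ω, F.Hom P = (innerFusionSystem S).Hom P := by
  have hYsc := isNormal_stronglyClosed hY
  have hker := hE.2.1
  -- normal subgroups of `S` inside `Y` or above `Y` are strongly closed
  have hin' : ∀ U : Subgroup Ω, U ≤ Y → S ≤ Subgroup.normalizer (U : Set Ω) →
      F.StronglyClosed U := by
    intro U hU hUn
    refine ⟨hU.trans hY.1, fun R hR φ hφ x => ?_⟩
    obtain ⟨ψ, hψ, hx, -⟩ := hY.2 R φ hφ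
    obtain ⟨s, hs, hsx⟩ := hYaut _ (restrict_mem hψ (le_sup_right : Y ≤ R ⊔ Y))
    have e : φ x = s * (x : Ω) * s⁻¹ :=
      (hx x).symm.trans ((congrArg ψ (Subtype.ext rfl)).trans (hsx ⟨x, hU (hR x.2)⟩))
    rw [e]
    exact mem_normalizer_conj (hUn hs) (hR x.2)
  have habove : ∀ W : Subgroup Ω, Y ≤ W → W ≤ S → S ≤ Subgroup.normalizer (W : Set Ω) →
      F.StronglyClosed W := by
    intro W hYW hWS hW
    refine ⟨hWS, fun R hR φ hφ x => ?_⟩
    obtain ⟨φ', hφ', hP, hφS, hPP, hind⟩ :=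
      (Cfsg.Agent.S5134.result p hS F hF _ hYsc θ E hE).1.2 R φ hφ
    rw [hin] at hφ'
    obtain ⟨-, g, hg0, hg⟩ := hφ'
    obtain ⟨⟨s, hs⟩, rfl⟩ := hg0
    have h1 := hind x
    rw [hg] at h1
    have h2 : θ ((⟨s, hs⟩ * ⟨x, hP x.2⟩ * (⟨s, hs⟩ : S)⁻¹)⁻¹ * ⟨φ x, hφS x⟩) = 1 := by
      rw [map_mul, map_inv, ← h1, map_mul, map_mul, map_inv]
      exact inv_mul_cancel _
    have h3 : (s * (x : Ω) * s⁻¹)⁻¹ * φ x ∈ W := hYW ((hker _).mp h2)
    have h4 : s * (x : Ω) * s⁻¹ ∈ W := mem_normalizer_conj (hW hs) (hR x.2)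
    have h5 := W.mul_mem h4 h3
    rwa [mul_inv_cancel_left] at h5
  -- `S` is normal in `F`
  obtain ⟨a, Zs, hZ0, hZa, -, hZchar, hZc⟩ := CfsgLib.FusionBasics.exists_central_series hS
  have hZn : ∀ i, S ≤ Subgroup.normalizer (Zs i : Set Ω) := fun i => by
    haveI := (hZchar i).2
    have hnor : ((Zs i).subgroupOf S).Normal := inferInstance
    exact (Subgroup.normal_subgroupOf_iff_le_normalizer (hZchar i).1).mp hnor
  have hSY := stronglyClosed_le_normalizer hYsc
  let T : Fin (a + a + 1) → Subgroup Ω := fun i =>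
    if h : (i : ℕ) ≤ a then Y ⊓ Zs ⟨i, Nat.lt_succ_of_le h⟩
    else Y ⊔ Zs ⟨(i : ℕ) - a, by omega⟩
  have hT : ∀ (i : Fin (a + a + 1)) (h : a ≤ (i : ℕ)),
      T i = Y ⊔ Zs ⟨(i : ℕ) - a, by omega⟩ := fun i hi => by
    rcases eq_or_lt_of_le hi with he | hlt
    · simp only [T, dif_pos he.ge]
      rw [show (⟨(i : ℕ) - a, by omega⟩ : Fin (a + 1)) = 0 from
          Fin.ext (by simp only [Fin.val_zero]; omega), hZ0, sup_bot_eq,
        show (⟨(i : ℕ), _⟩ : Fin (a + 1)) = Fin.last a from Fin.ext he.symm, hZa,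
        inf_eq_left.mpr hY.1]
    · simp only [T, dif_neg (not_le.mpr hlt)]
  have hSn : F.IsNormal S := by
    refine isNormal_of_central_series hS hF S T ?_ ?_ (fun i => ?_) fun i => ?_
    · simp only [T, Fin.val_zero]
      exact le_bot_iff.mp (inf_le_right.trans hZ0.le)
    · rw [hT _ (by simp), show (⟨((Fin.last (a + a) : Fin _) : ℕ) - a, _⟩ : Fin (a + 1)) =
        Fin.last a from Fin.ext (by simp), hZa]
      exact sup_eq_right.mpr hY.1
    · by_cases h : (i.succ : ℕ) ≤ a
      · simp only [T, dif_pos h]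
        refine hin' _ inf_le_left fun g hg => ?_
        rw [Subgroup.mem_normalizer_iff_map_conj_eq,
          Subgroup.map_inf _ _ _ (MulEquiv.injective _),
          Subgroup.mem_normalizer_iff_map_conj_eq.mp (hSY hg),
          Subgroup.mem_normalizer_iff_map_conj_eq.mp (hZn _ hg)]
      · rw [hT _ (by omega)]
        refine habove _ le_sup_left (sup_le hY.1 (hZchar _).1) fun g hg => ?_
        rw [Subgroup.mem_normalizer_iff_map_conj_eq, Subgroup.map_sup,
          Subgroup.mem_normalizer_iff_map_conj_eq.mp (hSY hg),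
          Subgroup.mem_normalizer_iff_map_conj_eq.mp (hZn _ hg)]
    · by_cases h : (i.succ : ℕ) ≤ a
      · have hi : (i : ℕ) < a := by simp at h; omega
        simp only [T, dif_pos h, dif_pos (show (i.castSucc : ℕ) ≤ a from hi.le)]
        refine le_inf ?_ ((Subgroup.commutator_mono le_rfl inf_le_right).trans (hZc ⟨i, hi⟩))
        refine Subgroup.commutator_le.mpr fun s hs y hy => ?_
        rw [commutatorElement_def]
        exact Y.mul_mem (mem_normalizer_conj (hSY hs) hy.1) (Y.inv_mem hy.1)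
      · have hi : a ≤ (i : ℕ) := by simp at h; omega
        rw [hT _ (by simp; omega), hT _ (by simpa using hi)]
        refine Subgroup.commutator_le.mpr fun s hs y hy => ?_
        rw [sup_comm] at hy
        have hy' := SetLike.mem_coe.mpr hy
        rw [Subgroup.coe_mul_of_left_le_normalizer_right _ Y ((hZchar _).1.trans hSY)] at hy'
        obtain ⟨z, hz, w, hw, rfl⟩ := Set.mem_mul.mp hy'
        have hlt : (i : ℕ) - a < a := by omega
        have hz' : z ∈ Zs (⟨(i : ℕ) - a, hlt⟩ : Fin a).succ := by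
          have he : (⟨(i : ℕ) - a, hlt⟩ : Fin a).succ =
              (⟨(i.succ : ℕ) - a, by omega⟩ : Fin (a + 1)) :=
            Fin.ext (by simp only [Fin.val_succ]; omega)
          rw [he]
          exact hz
        have h1 := hZc ⟨(i : ℕ) - a, hlt⟩ (Subgroup.commutator_mem_commutator hs hz')
        have e : ⁅s, z * w⁆ = ⁅s, z⁆ * (z * ⁅s, w⁆ * z⁻¹) := by
          simp only [commutatorElement_def]; group
        rw [e]
        refine Subgroup.mul_mem _ (Subgroup.mem_sup_right ?_) (Subgroup.mem_sup_left ?_)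
        · exact h1
        · refine mem_normalizer_conj (hSY ((hZchar _).1 hz)) ?_
          rw [commutatorElement_def]
          exact Y.mul_mem (mem_normalizer_conj (hSY hs) hw) (Y.inv_mem hw)
  intro P
  ext φ
  refine ⟨fun hφ => ?_, fun ⟨hP, s, hs, h⟩ => mem_of_conj hP hs h⟩
  obtain ⟨ψ, hψ, hx, -⟩ := hSn.2 P φ hφ
  obtain ⟨s, hs, hsx⟩ := hSaut _ (restrict_mem hψ (le_sup_right : S ≤ P ⊔ S))
  exact ⟨dom_le hφ, s, hs, fun x =>
    (hx x).symm.trans ((congrArg ψ (Subtype.ext rfl)).trans (hsx ⟨x, dom_le hφ x.2⟩))⟩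

/-- The image of `Aut_F(Q)` in a factor system is a `p`-group when `Aut_F(Q)` is one. -/
theorem isPGroup_autGroup_factor [Finite S] (hS : IsPGroup p S) {F : FusionSystem S}
    {Y : Subgroup Ω} {Ω' : Type u} [Group Ω'] {S' : Subgroup Ω'} {θ : ↥S →* Ω'}
    {E : FusionSystem S'} (hE : F.IsFactorSystem Y θ E) {Q' : Subgroup Ω'} (hQ' : Q' ≤ S')
    (h : IsPGroup p (F.autGroup (preimageAlong θ Q'))) : IsPGroup p (E.autGroup Q') := by
  obtain ⟨hYS, hker, hrange, hmem⟩ := hE
  rintro ⟨β, hβ⟩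
  obtain ⟨-, ψ, hψ, hP, hψS, hPP, hind⟩ := (hmem Q' _).mp ((mem_autGroup_iff E hQ').mp hβ)
  haveI := finite_of_le hP
  have hm : ∀ x, ψ x ∈ preimageAlong θ Q' := fun x =>
    mem_preimageAlong.mpr ⟨hψS x, by rw [← hind x]; exact (β _).2⟩
  obtain ⟨α, hα, hαψ⟩ := exists_aut_of_hom' F hψ hm
  obtain ⟨k, hk⟩ := h ⟨α, hα⟩
  have hk' : α ^ p ^ k = 1 := congrArg Subtype.val hk
  have hcomm : ∀ (n : ℕ) (x : ↥(preimageAlong θ Q')),
      (((β ^ n) ⟨θ ⟨x, hP x.2⟩, hPP x⟩ : Q') : Ω') =
        θ ⟨(((α ^ n) x : ↥(preimageAlong θ Q')) : Ω), hP ((α ^ n) x).2⟩ := by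
    intro n
    induction n with
    | zero => intro x; simp
    | succ n ih =>
      intro x
      rw [pow_succ', pow_succ', MulAut.mul_apply]
      have e : (β ^ n) ⟨θ ⟨x, hP x.2⟩, hPP x⟩ =
          (⟨θ ⟨_, hP ((α ^ n) x).2⟩, hPP ((α ^ n) x)⟩ : Q') := Subtype.ext (ih x)
      rw [e]
      refine (hind ((α ^ n) x)).trans (congrArg θ (Subtype.ext ?_))
      exact (hαψ _).symm
  refine ⟨k, Subtype.ext (MulEquiv.ext fun y => Subtype.ext ?_)⟩
  obtain ⟨⟨a, ha⟩, hay⟩ := hrange.ge (hQ' y.2)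
  have ham : a ∈ preimageAlong θ Q' := mem_preimageAlong.mpr ⟨ha, hay ▸ y.2⟩
  rw [show y = ⟨θ ⟨a, hP ham⟩, hPP ⟨a, ham⟩⟩ from Subtype.ext hay.symm]
  show (((β ^ p ^ k) _ : Q') : Ω') = _
  rw [hcomm (p ^ k) ⟨a, ham⟩]
  have e2 : (α ^ p ^ k) ⟨a, ham⟩ = ⟨a, ham⟩ := by rw [hk']; rfl
  simp only [e2]
  rfl

/-- Preimages of characteristic subgroups of a characteristic quotient are characteristic. -/
theorem characteristic_preimageAlong {Y : Subgroup Ω} [hY : (Y.subgroupOf S).Characteristic]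
    {Q' : Subgroup (↥S ⧸ Y.subgroupOf S)} [hQ' : Q'.Characteristic] :
    ((preimageAlong (QuotientGroup.mk' (Y.subgroupOf S)) Q').subgroupOf S).Characteristic := by
  have e : (preimageAlong (QuotientGroup.mk' (Y.subgroupOf S)) Q').subgroupOf S =
      Q'.comap (QuotientGroup.mk' (Y.subgroupOf S)) :=
    Subgroup.comap_map_eq_self_of_injective S.subtype_injective _
  rw [e]
  refine Subgroup.characteristic_iff_le_comap.mpr fun γ x hx => ?_
  have hγ : (Y.subgroupOf S).map γ.toMonoidHom = Y.subgroupOf S :=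
    Subgroup.characteristic_iff_map_eq.mp hY γ
  exact Subgroup.characteristic_iff_le_comap.mp hQ'
    (QuotientGroup.congr (Y.subgroupOf S) (Y.subgroupOf S) γ hγ) hx

theorem characteristic_center (S : Subgroup Ω) :
    ((S ⊓ Subgroup.centralizer (S : Set Ω)).subgroupOf S).Characteristic := by
  have e : (S ⊓ Subgroup.centralizer (S : Set Ω)).subgroupOf S = Subgroup.center S := by
    ext x
    refine ⟨fun hx => Subgroup.mem_center_iff.mpr fun y => Subtype.ext (hx.2 y y.2),
      fun hx => ⟨x.2, fun y hy => ?_⟩⟩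
    exact congrArg Subtype.val (Subgroup.mem_center_iff.mp hx ⟨y, hy⟩)
  rw [e]
  infer_instance

theorem characteristic_thompson (S : Subgroup Ω) :
    ((thompsonSubgroupAOf S).subgroupOf S).Characteristic := by
  refine Subgroup.characteristic_iff_map_eq.mpr fun γ => ?_
  have h1 := thompson_image (U := S) (ι := γ.toMonoidHom) γ.injective rfl
  have h2 := thompson_image (U := S) (ι := MonoidHom.id ↥S) Function.injective_id rfl
  rw [Subgroup.map_id] at h2
  rw [h1, h2]
  simp [MonoidHom.range_eq_map]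

/-- **Frobenius criterion, strengthened**: automizers of nontrivial characteristic subgroups of
`S` being `p`-groups forces the inner system. -/
theorem inner_of_characteristic_automizers :
    ∀ (n : ℕ) (Ω : Type u) [Group Ω] (S : Subgroup Ω) [Finite S], Nat.card S = n →
      IsPGroup p S → ∀ F : FusionSystem S, F.IsSaturated p →
      (p ≠ 2 ∨ F.IsSectionFree p (Equiv.Perm (Fin 4))) →
      (∀ Q : Subgroup Ω, Q ≤ S → Q ≠ ⊥ → (Q.subgroupOf S).Characteristic →
        IsPGroup p (F.autGroup Q)) →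
      ∀ P : Subgroup Ω, F.Hom P = (innerFusionSystem S).Hom P := by
  intro n
  induction n using Nat.strong_induction_on with
  | _ n IH =>
  intro Ω _ S _ hn hS F hF hp hchar P
  rcases eq_or_ne S ⊥ with hbot | hne
  · ext φ
    refine ⟨fun hφ => ⟨dom_le hφ, 1, S.one_mem, fun x => ?_⟩,
      fun ⟨hP, s, hs, h⟩ => mem_of_conj hP hs h⟩
    have h1 : φ x = 1 := Subgroup.mem_bot.mp (hbot.le (apply_mem hφ x))
    have h2 : (x : Ω) = 1 := Subgroup.mem_bot.mp (hbot.le (dom_le hφ x.2))
    simp [h1, h2]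
  -- normalizer systems of characteristic subgroups are inner
  have main : ∀ Y : Subgroup Ω, Y ≤ S → Y ≠ ⊥ → (Y.subgroupOf S).Characteristic →
      ∀ (P : Subgroup Ω) (φ : P →* Ω), φ ∈ F.Hom P → Y ≤ P → (Y.subgroupOf P).map φ = Y →
        φ ∈ (innerFusionSystem S).Hom P := by
    intro Y hY hYne hYchar P φ hφ hYP hmap
    have hYn : S ≤ Subgroup.normalizer (Y : Set Ω) :=
      (Subgroup.normal_subgroupOf_iff_le_normalizer hY).mp inferInstance
    obtain ⟨N, hN⟩ := CfsgLib.FusionBasics.exists_normalizerSystem F hY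
    have hYfn := isFullyNormalized_of_le_normalizer F hY hYn
    have hTS : normalizerIn S Y = S :=
      le_antisymm (normalizerIn_le S Y) fun x hx => ⟨hx, hYn hx⟩
    -- move to a system over `S`
    have key : ∀ (T : Subgroup Ω) (N : FusionSystem T), T = S → N.IsSaturated p →
        (∀ R : Subgroup Ω, N.Hom R ⊆ F.Hom R) → N.IsNormal Y →
        (p ≠ 2 ∨ N.IsSectionFree p (Equiv.Perm (Fin 4))) →
        ∀ (R : Subgroup Ω) (χ : R →* Ω), χ ∈ N.Hom R → χ ∈ (innerFusionSystem S).Hom R := by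
      rintro T M rfl hNsat hNF hYN hNp R χ hχ
      haveI := hYchar
      set θ := QuotientGroup.mk' (Y.subgroupOf T) with hθ
      have hYsc := isNormal_stronglyClosed hYN
      have hker : ∀ s : T, θ s = 1 ↔ (s : Ω) ∈ Y := fun s => QuotientGroup.eq_one_iff s
      obtain ⟨E, hE⟩ := exists_isFactorSystem (S' := θ.range) M hYsc θ hker rfl
      haveI : Finite θ.range := finite_of_range rfl
      have hlt : Nat.card θ.range < n := by
        subst hn
        have h1 : Nat.card θ.range = (Y.subgroupOf T).index := by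
          rw [MonoidHom.range_eq_top.mpr (QuotientGroup.mk'_surjective _),
            Subgroup.card_top]
          exact (Subgroup.index_eq_card _).symm
        rw [h1, ← Subgroup.card_mul_index (Y.subgroupOf T)]
        refine lt_mul_of_one_lt_left (Nat.pos_of_ne_zero Subgroup.index_ne_zero_of_finite) ?_
        rw [Finite.one_lt_card_iff_nontrivial, Subgroup.nontrivial_iff_ne_bot, ne_eq,
          Subgroup.subgroupOf_eq_bot]
        exact fun hd => hYne (by simpa [hY] using hd.eq_bot)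
      have hin := IH _ hlt _ θ.range rfl (isPGroup_of_range hS rfl) E
        (factor_saturated hS hNsat hYsc hE)
        (hNp.imp id fun h => factor_sectionFree hS hNsat hYsc h hE) (fun Q' hQ' hQne hQ'c => by
          refine isPGroup_autGroup_factor hS hE hQ' ?_
          have hQc : ((preimageAlong θ Q').subgroupOf T).Characteristic := by
            haveI : Q'.Characteristic := by
              have htop := MonoidHom.range_eq_top.mpr (QuotientGroup.mk'_surjective (Y.subgroupOf T))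
              refine Subgroup.characteristic_iff_le_comap.mpr fun γ x hx => ?_
              let e := (MulEquiv.subgroupCongr htop).trans Subgroup.topEquiv
              exact Subgroup.characteristic_iff_le_comap.mp hQ'c
                ((e.trans γ).trans e.symm) (show (⟨x, hQ' hx⟩ : θ.range) ∈ Q'.subgroupOf θ.range from hx)
            exact characteristic_preimageAlong
          have hQne' : preimageAlong θ Q' ≠ ⊥ := fun hb => hQne (le_bot_iff.mp fun y hy => by
            obtain ⟨s, rfl⟩ := hQ' hy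
            have hs1 : (s : Ω) = 1 :=
              Subgroup.mem_bot.mp (hb.le ((mem_preimageAlong_coe s).mpr hy))
            rw [Subgroup.mem_bot, show s = 1 from Subtype.ext hs1, map_one])
          refine IsPGroup.to_le (hchar _ (preimageAlong_le θ Q') hQne' hQc) ?_
          exact Subgroup.closure_mono fun β hβ => hNF _ hβ)
      have hYaut : ∀ χ ∈ M.Hom Y, ∃ s ∈ T, ∀ x : Y, χ x = s * (x : Ω) * s⁻¹ := fun χ hχ => by
        refine exists_conj_of_isPGroup_autGroup hS hF hYfn (hchar Y hY hYne hYchar) (hNF _ hχ) ?_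
        exact CfsgLib.FusionExamples.eq_of_isConj_of_isNormal hYN (isConj_of_hom hχ)
      have hSaut : ∀ χ ∈ M.Hom T, ∃ s ∈ T, ∀ x : T, χ x = s * (x : Ω) * s⁻¹ := fun χ hχ => by
        refine exists_conj_of_isPGroup_autGroup hS hF
          (isFullyNormalized_of_le_normalizer F le_rfl Subgroup.le_normalizer)
          (hchar T le_rfl hne ?_) (hNF _ hχ) ?_
        · rw [Subgroup.subgroupOf_self]
          infer_instance
        · exact Subgroup.eq_of_le_of_card_ge (range_le hχ)
            (by rw [card_range_eq (M.injective_of_mem hχ)])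
      exact (inner_of_factor_inner hS hNsat hYN hYaut hSaut hE hin R).le hχ
    refine key _ N hTS (Cfsg.Agent.S5098.result p hS F hF Y hYfn N hN)
      (fun R χ hχ => by rw [hN R] at hχ; exact hχ.1) ?_
      (hp.imp id fun h => normalizerSystem_sectionFree hS hF h hYfn hN) P φ
      (mem_normalizerSystem_of_map_eq hYn hN hφ hYP hmap)
    refine ⟨fun y hy => ⟨hY hy, hYn (hY hy)⟩, fun R χ hχ => ?_⟩
    rw [hN R] at hχ
    obtain ⟨-, -, -, ψ, hψ, hx, hm⟩ := hχ
    exact ⟨ψ, mem_normalizerSystem_of_map_eq hYn hN hψ le_sup_right hm, hx, hm⟩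
  have hW := isLocalFunctor_thompson F
  have hJS : thompsonSubgroupAOf S ≤ S := hW.le le_rfl
  have hZne : S ⊓ Subgroup.centralizer (S : Set Ω) ≠ ⊥ := by
    haveI : Nontrivial S := (Subgroup.nontrivial_iff_ne_bot S).mpr hne
    haveI := hS.center_nontrivial
    obtain ⟨z, hz⟩ := exists_ne (1 : Subgroup.center S)
    intro h
    refine hz (Subtype.ext (Subtype.ext ?_))
    have hmem : ((z : S) : Ω) ∈ S ⊓ Subgroup.centralizer (S : Set Ω) :=
      ⟨(z : S).2, fun w hw => congrArg Subtype.val (Subgroup.mem_center_iff.mp z.2 ⟨w, hw⟩)⟩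
    rw [h] at hmem
    exact Subgroup.mem_bot.mp hmem
  have hJne : thompsonSubgroupAOf S ≠ ⊥ := fun h =>
    hZne (le_bot_iff.mp ((hW.centre_le le_rfl).trans h.le))
  refine Cfsg.Agent.S5194.result p hS F hF hp ?_ ?_ P
  · intro C hC R
    ext φ
    refine ⟨fun h => ?_, fun ⟨hR, s, hs, h⟩ => mem_of_conj hR hs h⟩
    rw [hC R] at h
    obtain ⟨-, hR, -, ψ, hψ, hx, hfix⟩ := h
    have hm : ((S ⊓ Subgroup.centralizer (S : Set Ω)).subgroupOf
        (R ⊔ (S ⊓ Subgroup.centralizer (S : Set Ω)))).map ψ =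
        S ⊓ Subgroup.centralizer (S : Set Ω) := by
      refine le_antisymm ?_ fun v hv => ⟨⟨v, Subgroup.mem_sup_right hv⟩, hv, hfix ⟨v, hv⟩⟩
      rintro _ ⟨w, hw, rfl⟩
      have e : ψ w = (w : Ω) := hfix ⟨w, hw⟩
      rw [e]
      exact hw
    obtain ⟨-, s, hs, hc⟩ :=
      main _ inf_le_left hZne (characteristic_center S) _ ψ hψ le_sup_right hm
    exact ⟨hR, s, ⟨hs, fun v hv => (hv.2 s hs).symm⟩, fun x => (hx x).symm.trans (hc _)⟩
  · intro N hN R
    ext φ
    refine ⟨fun h => ?_, fun ⟨hR, s, hs, h⟩ => mem_of_conj hR hs h⟩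
    rw [hN R] at h
    obtain ⟨-, hR, -, ψ, hψ, hx, hm⟩ := h
    obtain ⟨-, s, hs, hc⟩ :=
      main _ hJS hJne (characteristic_thompson S) _ ψ hψ le_sup_right hm
    exact ⟨hR, s, ⟨hs, hW.le_normalizer hs⟩, fun x => (hx x).symm.trans (hc _)⟩

end CfsgLib.FusionSub
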