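import Cfsg.Agent.Lib.FusionSub.TransvectionCentre
import Cfsg.Agent.Lib.FusionModels.PearlMaxClass
import Cfsg.Agent.Lib.FusionBasics.Normal
import Cfsg.Agent.Lib.FusionExamples.Basic
import Cfsg.Agent.Lib.FusionExamples.SmallEssential
import Cfsg.Agent.Lib.PGroups.MaximalClass

/-!
A saturated fusion system, `p` odd, over a `p`-group with commutator subgroup of order `p` different
from the centre has nontrivial core.
-/

set_option autoImplicit false
set_option linter.style.haveILetI false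
set_option linter.unusedSectionVars false

namespace CfsgLib.FusionSub

open Cfsg Cfsg.FusionSystem CfsgLib.Alperin
open scoped commutatorElement

variable {Ω : Type*} [Group Ω] {S : Subgroup Ω} [Finite S] {p : ℕ} [Fact p.Prime]

/-- `α` inverts `Z` and is trivial on `center S` modulo `Z`. -/
def InvertsMod (F : FusionSystem S) (Z : Subgroup S) (α : MulAut S) : Prop :=
  α ∈ F.autGroup S ∧ (∀ z ∈ Z, α z = z⁻¹) ∧ ∀ c ∈ Subgroup.center S, c⁻¹ * α c ∈ Z

theorem apply_mem_center {G : Type*} [Group G] (β : MulAut G) {c : G} (hc : c ∈ Subgroup.center G) :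
    β c ∈ Subgroup.center G := by
  refine Subgroup.mem_center_iff.mpr fun g => ?_
  obtain ⟨g, rfl⟩ := β.surjective g
  rw [← map_mul, ← map_mul, Subgroup.mem_center_iff.mp hc g]

theorem apply_mem_of_eq_commutator {G : Type*} [Group G] (β : MulAut G) {Z : Subgroup G}
    (hZ : commutator G = Z) {z : G} (hz : z ∈ Z) : β z ∈ Z := by
  subst hZ
  exact (Subgroup.Characteristic.fixed inferInstance β).ge hz

/-- Automorphisms in the system agree on the centre when their quotient acts as a `p`-element. -/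
theorem fixes_center (hS : IsPGroup p S) {F : FusionSystem S} (hF : F.IsSaturated p)
    {γ : MulAut S} (hγ : γ ∈ F.autGroup S) {c : S} (hc : c ∈ Subgroup.center S)
    (hpow : (γ ^ p) c = c) : γ c = c := by
  haveI := finite_autGroup F (le_refl S)
  set X := F.autGroup S
  set x : X := ⟨γ, hγ⟩
  obtain ⟨-, -, R, hR⟩ := centralized_automized_of_fullyNormalized hS hF (isFullyNormalized_top F)
  have hn := (orderOf_pos x).ne'
  set m := orderOf x / p ^ (orderOf x).factorization p
  have hm : ¬ p ∣ m := Nat.not_dvd_ordCompl Fact.out hn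
  have hpm : (x ^ m) ^ p ^ (orderOf x).factorization p = 1 := by
    rw [← pow_mul, mul_comm, Nat.ordProj_mul_ordCompl_eq_self, pow_orderOf_eq_one]
  have hnorm : Subgroup.zpowers (x ^ m) ≤ Subgroup.normalizer ((R : Subgroup X) : Set X) := by
    refine Subgroup.zpowers_le.mpr (Subgroup.mem_normalizer_fintype fun y hy => ?_)
    rw [SetLike.mem_coe, hR, Subgroup.mem_subgroupOf] at hy ⊢
    obtain ⟨g, hg, hgy⟩ := mem_autInducedBy_iff.mp hy
    set a : MulAut S := ((x ^ m : X) : MulAut S)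
    refine mem_autInducedBy_iff.mpr ⟨(a ⟨g, hg⟩ : Ω), (a ⟨g, hg⟩).2, fun w => ?_⟩
    show ((a ((y : MulAut S) (a.symm w)) : S) : Ω) = _
    rw [show (y : MulAut S) (a.symm w) = ⟨g, hg⟩ * a.symm w * ⟨g, hg⟩⁻¹ from Subtype.ext (hgy _),
      map_mul, map_mul, map_inv, MulEquiv.apply_symm_apply]
    rfl
  have hz : IsPGroup p (Subgroup.zpowers (x ^ m)) := by
    refine IsPGroup.of_card_dvd_pow (n := (orderOf x).factorization p) ?_
    rw [Nat.card_zpowers]
    exact orderOf_dvd_of_pow_eq_one hpm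
  have hmem : x ^ m ∈ (R : Subgroup X) := by
    rw [← R.is_maximal' (IsPGroup.to_sup_of_normal_right' hz R.2 hnorm) le_sup_right]
    exact Subgroup.mem_sup_left (Subgroup.mem_zpowers _)
  rw [hR, Subgroup.mem_subgroupOf] at hmem
  obtain ⟨g, hg, hgx⟩ := mem_autInducedBy_iff.mp hmem
  have hm' : (γ ^ m) c = c := Subtype.ext (by
    have h := hgx c
    rw [Subgroup.coe_pow] at h
    have hcg : g * (c : Ω) = c * g := congrArg Subtype.val (Subgroup.mem_center_iff.mp hc ⟨g, hg⟩)
    rw [h, hcg, mul_inv_cancel_right])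
  let St := MulAction.stabilizer (MulAut S) c
  obtain ⟨u, v, huv⟩ := Int.isCoprime_iff_gcd_eq_one.mpr (show Int.gcd (p : ℤ) (m : ℤ) = 1 by
    rw [Int.gcd_natCast_natCast]
    exact ((Fact.out : p.Prime).coprime_iff_not_dvd).mpr hm)
  have h1 : γ ^ p ∈ St := hpow
  have h2 : γ ^ m ∈ St := hm'
  have h3 := St.mul_mem (St.zpow_mem h1 u) (St.zpow_mem h2 v)
  rw [← zpow_natCast γ p, ← zpow_natCast γ m, ← zpow_mul, ← zpow_mul, ← zpow_add, mul_comm (p : ℤ) u,
    mul_comm (m : ℤ) v, huv, zpow_one] at h3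
  exact h3

theorem commute_on_center (hS : IsPGroup p S) {F : FusionSystem S} (hF : F.IsSaturated p)
    {Z : Subgroup S} (hcard : Nat.card Z = p) (hcomm : commutator S = Z) (hZC : Z ≤ Subgroup.center S)
    {α β : MulAut S} (hα : InvertsMod F Z α) (hβ : β ∈ F.autGroup S) {c : S}
    (hc : c ∈ Subgroup.center S) : α (β c) = β (α c) := by
  have hβZ : ∀ z ∈ Z, β z ∈ Z := fun z hz => apply_mem_of_eq_commutator β hcomm hz
  have hcommZ : ∀ z ∈ Z, α (β z) = β (α z) := fun z hz => by
    rw [hα.2.1 z hz, hα.2.1 _ (hβZ z hz), map_inv]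
  set γ := (β * α)⁻¹ * (α * β)
  have hfixZ : ∀ z ∈ Z, γ z = z := fun z hz => by
    show (β * α).symm (α (β z)) = z
    rw [hcommZ z hz]
    exact (β * α).symm_apply_apply z
  have hdisp : ∀ d ∈ Subgroup.center S, d⁻¹ * γ d ∈ Z := by
    intro d hd
    have e : (β (α d))⁻¹ * α (β d) ∈ Z := by
      have h1 := Z.mul_mem (Z.inv_mem (hβZ _ (hα.2.2 d hd))) (hα.2.2 _ (apply_mem_center β hd))
      convert h1 using 1
      rw [map_mul, map_inv, mul_inv_rev, inv_inv, mul_assoc, mul_inv_cancel_left]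
    have hmem : ∀ z ∈ Z, (β * α).symm z ∈ Z := fun z hz => apply_mem_of_eq_commutator _ hcomm hz
    have h2 := hmem _ e
    rw [map_mul, map_inv] at h2
    have h3 : (β * α).symm (β (α d)) = d := (β * α).symm_apply_apply d
    rwa [h3] at h2
  have hγ : γ ∈ F.autGroup S := mul_mem (inv_mem (mul_mem hβ hα.1)) (mul_mem hα.1 hβ)
  have hpow : ∀ r : ℕ, ∀ d ∈ Subgroup.center S, (γ ^ r) d = d * (d⁻¹ * γ d) ^ r := by
    intro r
    induction r with
    | zero => intro d _; simp
    | succ r ih =>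
      intro d hd
      rw [pow_succ', MulAut.mul_apply, ih d hd, map_mul, map_pow, hfixZ _ (hdisp d hd), pow_succ',
        ← mul_assoc, mul_inv_cancel_left]
  have h := fixes_center hS hF hγ hc (by
    rw [hpow p c hc, ← hcard, orderOf_dvd_iff_pow_eq_one.mp (Subgroup.orderOf_dvd_natCard _ (hdisp c hc)),
      mul_one])
  have h' : (β * α).symm (α (β c)) = c := h
  exact (MulEquiv.symm_apply_eq (β * α)).mp h'

/-- A second such automorphism fixes the fixed points of the first. -/
theorem fixed_of_fixed (hp : p ≠ 2) (hS : IsPGroup p S) {F : FusionSystem S} (hF : F.IsSaturated p)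
    {Z : Subgroup S} (hcard : Nat.card Z = p) (hcomm : commutator S = Z) (hZC : Z ≤ Subgroup.center S)
    {α α' : MulAut S} (hα : InvertsMod F Z α) (hα' : InvertsMod F Z α') {w : S}
    (hw : w ∈ Subgroup.center S) (hαw : α w = w) : α' w = w := by
  set z := w⁻¹ * α' w
  have hz : z ∈ Z := hα'.2.2 w hw
  have h1 : α z = z := by
    rw [map_mul, map_inv, hαw, commute_on_center hS hF hcard hcomm hZC hα hα'.1 hw, hαw]
  rw [hα.2.1 z hz] at h1
  have h2 : z ^ 2 = 1 := by
    rw [pow_two]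
    nth_rewrite 1 [← h1]
    exact inv_mul_cancel z
  have h3 : orderOf z ∣ Nat.gcd p 2 :=
    Nat.dvd_gcd (hcard ▸ Subgroup.orderOf_dvd_natCard Z hz) (orderOf_dvd_of_pow_eq_one h2)
  rw [(Nat.coprime_primes Fact.out Nat.prime_two).mpr hp, Nat.dvd_one, orderOf_eq_one_iff,
    inv_mul_eq_one] at h3
  exact h3.symm

variable (F : FusionSystem S)

/-- The part of `center S` in a subgroup of `Ω`. -/
def centreIn (E : Subgroup Ω) : Subgroup E := ((Subgroup.center S).map S.subtype).subgroupOf E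

/-- The local result at an abelian essential subgroup. -/
theorem abelian_essential (hp : p ≠ 2) (hS : IsPGroup p S) (hF : F.IsSaturated p)
    {Z : Subgroup S} (hcard : Nat.card Z = p) (hcomm : commutator S = Z) (hZC : Z ≤ Subgroup.center S)
    {E : Subgroup Ω} (hE : F.IsEssential p E) (hab : IsMulCommutative E) :
    Nat.card S ≤ p * Nat.card E ∧ (centreIn (S := S) E).index ≤ p ∧
    ∃ W : Subgroup S, W ≤ Subgroup.center S ∧ (Subgroup.center S ≤ W ⊔ Z) ∧
      (∃ α, InvertsMod F Z α ∧ ∀ w ∈ W, α w = w) ∧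
      ((∀ α, InvertsMod F Z α → ∀ w ∈ W, α w = w) →
        (∀ c ∈ Subgroup.center S, (∀ α, InvertsMod F Z α → α c = c) → c ∈ W) →
        ∀ β ∈ F.autGroup E, ∀ w : E, (w : Ω) ∈ W.map S.subtype → ((β w : E) : Ω) ∈ W.map S.subtype) := by
  classical
  have hEle : E ≤ S := hE.1.1
  haveI := finite_of_le hEle
  haveI := finite_autGroup F hEle
  haveI := hab
  letI : CommGroup E := { (inferInstance : Group E) with mul_comm := fun a b => mul_comm' a b }
  have hCS : centralizerIn S E ≤ E := hE.1.2 E (isConj_refl F hEle)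
  have hcE : ∀ c ∈ Subgroup.center S, (c : Ω) ∈ E := fun c hc => hCS ⟨c.2, fun x hx =>
    congrArg Subtype.val (Subgroup.mem_center_iff.mp hc ⟨x, hEle hx⟩)⟩
  have hbr : ∀ (g : Ω) (hg : g ∈ S) (x : E),
      g * (x : Ω) * g⁻¹ * (x : Ω)⁻¹ ∈ Z.map S.subtype := fun g hg x =>
    ⟨⁅(⟨g, hg⟩ : S), ⟨x, hEle x.2⟩⁆, hcomm.le (Subgroup.commutator_mem_commutator (Subgroup.mem_top _)
      (Subgroup.mem_top _)), rfl⟩
  have hZE : Z.map S.subtype ≤ E := by
    rintro _ ⟨z, hz, rfl⟩
    exact hcE z (hZC hz)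
  have hnorm : S ≤ Subgroup.normalizer (E : Set Ω) := fun g hg => by
    refine FusionExamples.SmallEssential.mem_normalizer fun x hx => ?_
    have h := E.mul_mem (hZE (hbr g hg ⟨x, hx⟩)) hx
    simpa using h
  set X := F.autGroup E
  obtain ⟨-, -, R, hR⟩ := centralized_automized_of_fullyNormalized hS hF hE.2.1
  have hRv : ∀ v ∈ (R : Subgroup X), ∃ g ∈ S, ∀ x : E, (((v : MulAut E) x : E) : Ω) = g * x * g⁻¹ :=
    fun v hv => mem_autInducedBy_iff.mp (by rwa [hR, Subgroup.mem_subgroupOf] at hv)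
  let cS : S →* X :=
    MonoidHom.mk' (fun g => ⟨conjAut E g (hnorm g.2),
        autInducedBy_le_autGroup F hEle (conjAut_mem g.2 (hnorm g.2))⟩) fun a b =>
      Subtype.ext (MulEquiv.ext fun x => Subtype.ext (by
        show ((a : Ω) * b) * x * ((a : Ω) * b)⁻¹ = (a : Ω) * ((b : Ω) * x * (b : Ω)⁻¹) * (a : Ω)⁻¹
        group))
  have hcS : ∀ g, cS g ∈ (R : Subgroup X) := fun g => by
    rw [hR, Subgroup.mem_subgroupOf]
    exact conjAut_mem g.2 (hnorm g.2)
  have hker : cS.ker = E.subgroupOf S := by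
    ext g
    rw [MonoidHom.mem_ker, Subgroup.mem_subgroupOf]
    constructor
    · intro h
      refine hCS ⟨g.2, fun x hx => ?_⟩
      have h2 : conjAut E (g : Ω) (hnorm g.2) = 1 := congrArg Subtype.val h
      have h1 : (g : Ω) * x * (g : Ω)⁻¹ = x :=
        congrArg Subtype.val (DFunLike.congr_fun h2 (⟨x, hx⟩ : E))
      exact (mul_inv_eq_iff_eq_mul.mp h1).symm
    · intro hg
      refine Subtype.ext (MulEquiv.ext fun x => Subtype.ext ?_)
      show (g : Ω) * x * (g : Ω)⁻¹ = x
      have h1 : (g : Ω) * x = x * g := congrArg Subtype.val (mul_comm' (⟨g, hg⟩ : E) x)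
      rw [h1, mul_inv_cancel_right]
  set ZE : Subgroup E := (Z.map S.subtype).subgroupOf E
  set CE : Subgroup E := centreIn (S := S) E
  have hZcard : Nat.card ZE = p := by
    rw [Nat.card_congr (Subgroup.subgroupOfEquivOfLe hZE).toEquiv, Subgroup.card_subtype, hcard]
  have hInn : Inn E = ⊥ := by
    refine (Subgroup.eq_bot_iff_forall _).mpr ?_
    rintro _ ⟨g, rfl⟩
    exact MulEquiv.ext fun x => by simp [mul_comm g x]
  have hcore : pCore p X = ⊥ := by
    have h := (isRadical_of_essential hS hE).2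
    rw [hInn, Subgroup.map_eq_bot_iff, Subgroup.ker_subtype] at h
    exact le_bot_iff.mp h
  have hlt : E < S := FusionModels.Pearl.lt_of_essential hS hF hE
  have hRne : (R : Subgroup X) ≠ ⊥ := by
    intro h
    refine hlt.not_ge fun g hg => ?_
    have h1 : (⟨g, hg⟩ : S) ∈ cS.ker := Subgroup.mem_bot.mp (h.le (hcS ⟨g, hg⟩))
    rwa [hker] at h1
  obtain ⟨hRcard, hidx, ⟨g₀, hg₀⟩, hstab, hmov⟩ :=
    transvection_centre (p := p) (isPGroup_of_le hS hEle) R hRne hZcard
      (show ZE ≤ CE from Subgroup.comap_mono (Subgroup.map_mono hZC))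
      (fun v hv x hx => by
        obtain ⟨g, hg, he⟩ := hRv v hv
        obtain ⟨c, hc, hcx⟩ := hx
        refine Subtype.ext ?_
        rw [he, ← show (c : Ω) = (x : Ω) from hcx]
        have h1 : g * (c : Ω) = c * g := congrArg Subtype.val (Subgroup.mem_center_iff.mp hc ⟨g, hg⟩)
        rw [h1, mul_inv_cancel_right])
      (fun v hv x => by
        obtain ⟨g, hg, he⟩ := hRv v hv
        rw [mul_comm]
        show ((((v : MulAut E) x : E) : Ω) * (x : Ω)⁻¹) ∈ Z.map S.subtype
        rw [he]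
        exact hbr g hg x)
      (fun x hx => ⟨⟨x, hEle x.2⟩, Subgroup.mem_center_iff.mpr fun g => Subtype.ext (by
          have h1 : (g : Ω) * x * (g : Ω)⁻¹ = x := congrArg Subtype.val (hx _ (hcS g))
          exact mul_inv_eq_iff_eq_mul.mp h1), rfl⟩)
      hcore
  -- lifting to `S`
  have hlift : ∀ g : X, ZE.map (g : MulAut E).toMonoidHom ≠ ZE → ∃ α : MulAut S, InvertsMod F Z α ∧
      (∀ c ∈ Subgroup.center S, ∀ hc : (c : Ω) ∈ E,
        (⟨c, hc⟩ : E) ∈ CE ⊓ CE.map (g : MulAut E).toMonoidHom → α c = c) ∧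
      ∀ c ∈ Subgroup.center S, α c = c → ∀ hc : (c : Ω) ∈ E,
        (⟨c, hc⟩ : E) ∈ CE ⊓ CE.map (g : MulAut E).toMonoidHom := by
    intro g hg
    obtain ⟨h, hcom, hinv, hfix, hCle⟩ := hmov g hg
    set φ := E.subtype.comp (h : MulAut E).toMonoidHom
    have hφ : φ ∈ F.Hom E := (mem_autGroup_iff F hEle).mp h.2
    have hext : S ≤ extender S E φ := fun s hs => by
      refine mem_extender_iff.mpr ⟨hs, hnorm hs, s, hs, fun x hx => ?_⟩
      have h1 := congrArg Subtype.val (DFunLike.congr_fun (congrArg Subtype.val (hcom _ (hcS ⟨s, hs⟩))) x)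
      exact h1
    obtain ⟨ψ, hψ, hψx⟩ := (receptive_of_fullyNormalized hS hF hE.2.1).2 E φ hφ (by
      rw [MonoidHom.range_comp, MonoidHom.range_eq_top.mpr (h : MulAut E).surjective,
        ← MonoidHom.range_eq_map, Subgroup.range_subtype])
    obtain ⟨α, hα, hαx⟩ := exists_aut_of_hom' F (restrict_mem hψ hext) (fun x => apply_mem hψ _)
    have happ : ∀ (c : S) (hc : (c : Ω) ∈ E), ((α c : S) : Ω) = ((h : MulAut E) ⟨c, hc⟩ : E) :=
      fun c hc => (hαx c).trans (hψx c hc _)
    refine ⟨α, ⟨hα, fun z hz => Subtype.ext ?_, fun c hc => ?_⟩, fun c hc hcE' hm => Subtype.ext ?_,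
      fun c hc hαc hcE' => ?_⟩
    · rw [happ z (hcE z (hZC hz)), hinv _ (show (⟨z, hcE z (hZC hz)⟩ : E) ∈ ZE from ⟨z, hz, rfl⟩)]
      rfl
    · obtain ⟨w, hw, b, hb, hwb⟩ := Subgroup.mem_sup.mp
        (hCle (show (⟨c, hcE c hc⟩ : E) ∈ CE from ⟨c, hc, rfl⟩))
      have hb' : (b⁻¹ * b⁻¹ : E) ∈ ZE := ZE.mul_mem (ZE.inv_mem hb) (ZE.inv_mem hb)
      obtain ⟨z, hz, hzb⟩ := hb'
      suffices e : c⁻¹ * α c = z by rw [e]; exact hz
      refine Subtype.ext ?_
      rw [show ((c⁻¹ * α c : S) : Ω) = (c : Ω)⁻¹ * (α c : S) from rfl, happ c (hcE c hc)]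
      refine Eq.trans ?_ hzb.symm
      have h1 : (⟨c, hcE c hc⟩ : E)⁻¹ * (h : MulAut E) ⟨c, hcE c hc⟩ = b⁻¹ * b⁻¹ := by
        rw [← hwb, map_mul, hfix w hw, hinv b hb, mul_inv_rev, mul_assoc, inv_mul_cancel_left]
      exact congrArg Subtype.val h1
    · rw [happ c hcE', hfix _ hm]
    · obtain ⟨w, hw, b, hb, hwb⟩ := Subgroup.mem_sup.mp
        (hCle (show (⟨c, hcE'⟩ : E) ∈ CE from ⟨c, hc, rfl⟩))
      have h1 : (h : MulAut E) ⟨c, hcE'⟩ = ⟨c, hcE'⟩ :=
        Subtype.ext ((happ c hcE').symm.trans (congrArg Subtype.val hαc))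
      rw [← hwb, map_mul, hfix w hw, hinv b hb, mul_right_inj] at h1
      have h2 : b ^ 2 = 1 := by
        rw [pow_two]
        nth_rewrite 1 [← h1]
        exact inv_mul_cancel b
      have h3 : orderOf b ∣ Nat.gcd p 2 :=
        Nat.dvd_gcd (hZcard ▸ Subgroup.orderOf_dvd_natCard ZE hb) (orderOf_dvd_of_pow_eq_one h2)
      rw [(Nat.coprime_primes Fact.out Nat.prime_two).mpr hp, Nat.dvd_one, orderOf_eq_one_iff] at h3
      rw [← hwb, h3, mul_one]
      exact hw
  refine ⟨?_, hidx, ?_⟩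
  · rw [← Subgroup.index_mul_card (E.subgroupOf S),
      Nat.card_congr (Subgroup.subgroupOfEquivOfLe hEle).toEquiv]
    refine Nat.mul_le_mul_right _ (le_trans ?_ hRcard)
    rw [← hker, Subgroup.index_ker]
    exact Subgroup.card_le_of_le (by rintro _ ⟨g, rfl⟩; exact hcS g)
  obtain ⟨α₀, hα₀, hfix₀, -⟩ := hlift g₀ hg₀
  let W : Subgroup S :=
    (((CE ⊓ CE.map (g₀ : MulAut E).toMonoidHom).map E.subtype).subgroupOf S) ⊓ Subgroup.center S
  refine ⟨W, inf_le_right, fun c hc => ?_, ⟨α₀, hα₀, ?_⟩, ?_⟩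
  · obtain ⟨-, -, -, hCle⟩ := (hmov g₀ hg₀).choose_spec
    obtain ⟨w, hw, b, hb, hwb⟩ := Subgroup.mem_sup.mp
      (hCle (show (⟨c, hcE c hc⟩ : E) ∈ CE from ⟨c, hc, rfl⟩))
    obtain ⟨c', hc', hw'⟩ := hw.1
    obtain ⟨z, hz, hz'⟩ := hb
    have e : c = c' * z := Subtype.ext (by
      rw [show ((c' * z : S) : Ω) = S.subtype c' * S.subtype z from rfl, hw', hz']
      exact (congrArg Subtype.val hwb).symm)
    rw [e]
    exact Subgroup.mul_mem_sup (show c' ∈ W from ⟨⟨w, hw, hw'.symm⟩, hc'⟩) hz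
  · rintro w ⟨⟨e, he, hew⟩, hwc⟩
    refine hfix₀ w hwc (hcE w hwc) ?_
    rwa [show (⟨w, hcE w hwc⟩ : E) = e from Subtype.ext hew.symm]
  intro hW hW' β hβ w hw
  obtain ⟨w', hw', hww⟩ := hw
  -- `W` lies in every conjugate of the fixed subgroup
  have hall : ∀ (g : X) (v : S), v ∈ W → ∀ hv : (v : Ω) ∈ E, (⟨v, hv⟩ : E) ∈ CE.map (g : MulAut E).toMonoidHom := by
    intro g v hv hvE
    by_cases hg : ZE.map (g : MulAut E).toMonoidHom = ZE
    · rw [hstab g hg]
      exact ⟨v, hv.2, rfl⟩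
    obtain ⟨α, hα, -, hback⟩ := hlift g hg
    exact (hback v hv.2 (hW α hα v hv) hvE).2
  set b : X := ⟨β, hβ⟩
  have hwE : (w' : Ω) ∈ E := by
    rw [show (w' : Ω) = (w : Ω) from hww]
    exact w.2
  have hweq : w = ⟨w', hwE⟩ := Subtype.ext hww.symm
  subst hweq
  have hstep : ∀ g : X, β ⟨w', hwE⟩ ∈ CE.map (g : MulAut E).toMonoidHom := by
    intro g
    obtain ⟨e, he, hew⟩ := hall (b⁻¹ * g) w' hw' hwE
    refine ⟨e, he, ?_⟩
    rw [← hew]
    exact (β.apply_symm_apply ((g : MulAut E) e)).symm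
  have h0 : β ⟨w', hwE⟩ ∈ CE := by
    obtain ⟨e, he, hee⟩ := hstep 1
    rw [← hee]
    exact he
  obtain ⟨c, hc, hcw⟩ := h0
  refine ⟨c, hW' c hc fun α hα => ?_, hcw⟩
  have hcW : c ∈ W := ⟨⟨_, ⟨⟨c, hc, hcw⟩, hstep g₀⟩, hcw.symm⟩, hc⟩
  exact hW α hα c hcW

/-- If `p` is odd and the commutator subgroup of `S` has order `p` and is not the whole centre, then the
core of every saturated system over `S` is nontrivial. -/
theorem core_ne_bot_of_commutator_prime (hp : p ≠ 2) (hS : IsPGroup p S) (hF : F.IsSaturated p)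
    {Z : Subgroup S} (hcard : Nat.card Z = p) (hcomm : commutator S = Z)
    (hne : ∃ x ∈ Subgroup.center S, x ∉ Z) : F.core ≠ ⊥ := by
  classical
  have hpp : p.Prime := Fact.out
  haveI : Z.Normal := hcomm ▸ Subgroup.commutator_normal ⊤ ⊤
  have hZC : Z ≤ Subgroup.center S := PGroups.le_center_of_card_eq_prime hS hcard
  intro hcore
  have hfinish : ∀ U : Subgroup S, U ≠ ⊥ → (∀ P : Subgroup Ω, (P = S ∨ F.IsEssential p P) →
      U.map S.subtype ≤ P ∧ ∀ α ∈ F.autGroup P, ∀ x : P, (x : Ω) ∈ U.map S.subtype →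
        ((α x : P) : Ω) ∈ U.map S.subtype) → False := by
    intro U hU h
    have h1 : U.map S.subtype ≤ F.core :=
      FusionExamples.isNormal_le_core (FusionBasics.isNormal_of_generators hS hF h)
    rw [hcore, le_bot_iff, Subgroup.map_eq_bot_iff_of_injective _ S.subtype_injective] at h1
    exact hU h1
  have hess : ∀ P : Subgroup Ω, F.IsEssential p P → ∀ c ∈ Subgroup.center S, (c : Ω) ∈ P :=
    fun P hP c hc => hP.1.2 P (isConj_refl F hP.1.1) ⟨c.2, fun x hx =>
      congrArg Subtype.val (Subgroup.mem_center_iff.mp hc ⟨x, hP.1.1 hx⟩)⟩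
  by_cases hA : ∃ P, F.IsEssential p P ∧ IsMulCommutative P
  · obtain ⟨E₀, hE₀, hab₀⟩ := hA
    obtain ⟨hcard₀, hidx₀, W₀, hW₀C, hW₀sup, ⟨α₀, hα₀, hα₀fix⟩, -⟩ :=
      abelian_essential F hp hS hF hcard hcomm hZC hE₀ hab₀
    have hEs : E₀ ≤ S := hE₀.1.1
    haveI := finite_of_le hEs
    have hCEcard : Nat.card (centreIn (S := S) E₀) = Nat.card (Subgroup.center S) := by
      rw [centreIn, Nat.card_congr (Subgroup.subgroupOfEquivOfLe ?_).toEquiv, Subgroup.card_subtype]
      rintro _ ⟨c, hc, rfl⟩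
      exact hess E₀ hE₀ c hc
    have hScard : Nat.card S ≤ p ^ 2 * Nat.card (Subgroup.center S) := by
      refine hcard₀.trans ?_
      rw [← (centreIn (S := S) E₀).index_mul_card, hCEcard, pow_two, mul_assoc]
      exact Nat.mul_le_mul_left _ (Nat.mul_le_mul_right _ hidx₀)
    -- every essential subgroup is abelian
    have habel : ∀ P, F.IsEssential p P → IsMulCommutative P := by
      intro P hP
      haveI := finite_of_le hP.1.1
      set P₀ := P.subgroupOf S
      have hlt : P < S := FusionModels.Pearl.lt_of_essential hS hF hP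
      have hPC : Subgroup.center S ≤ P₀ := fun c hc => hess P hP c hc
      refine ⟨⟨fun a b => ?_⟩⟩
      have key : ∀ a b : S, a ∈ P₀ → b ∈ P₀ → a * b = b * a := by
        by_contra! hnot
        obtain ⟨a, b, ha, hb, hab⟩ := hnot
        have haC : a ∉ Subgroup.center S := fun h => hab (Subgroup.mem_center_iff.mp h b).symm
        set A := Subgroup.center S ⊔ Subgroup.zpowers a
        have hAP : A ≤ P₀ := sup_le hPC (Subgroup.zpowers_le.mpr ha)
        have h1 : Subgroup.center S < A := lt_of_le_of_ne le_sup_left fun h =>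
          haC (h.ge (Subgroup.mem_sup_right (Subgroup.mem_zpowers a)))
        have h2 : P₀ < ⊤ := lt_top_iff_ne_top.mpr fun h => hlt.not_ge (Subgroup.subgroupOf_eq_top.mp h)
        have hbA : b ∉ A := by
          intro hbA
          have hle : A ≤ Subgroup.centralizer {a} := by
            refine sup_le (fun c hc => ?_) (Subgroup.zpowers_le.mpr ?_)
            · exact Subgroup.mem_centralizer_iff.mpr fun g hg => by
                rw [Set.mem_singleton_iff.mp hg]
                exact (Subgroup.mem_center_iff.mp hc a)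
            · exact Subgroup.mem_centralizer_iff.mpr fun g hg => by rw [Set.mem_singleton_iff.mp hg]
          exact hab (Subgroup.mem_centralizer_iff.mp (hle hbA) a rfl)
        have h3 : A < P₀ := lt_of_le_of_ne hAP fun h => hbA (h.ge hb)
        have h4 := PGroups.prime_mul_card_le hS h1
        have h5 := PGroups.prime_mul_card_le hS h3
        have h6 := PGroups.prime_mul_card_le hS h2
        rw [Subgroup.card_top] at h6
        have h7 : 0 < Nat.card (Subgroup.center S) := Nat.card_pos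
        have h8 := hpp.two_le
        nlinarith [Nat.mul_le_mul_left p h5, Nat.mul_le_mul_left (p * p) h4]
      exact Subtype.ext (congrArg Subtype.val
        (key ⟨a, hP.1.1 a.2⟩ ⟨b, hP.1.1 b.2⟩ a.2 b.2) :)
    -- the common fixed points
    let W : Subgroup S :=
      { carrier := {c | c ∈ Subgroup.center S ∧ ∀ α, InvertsMod F Z α → α c = c}
        one_mem' := ⟨one_mem _, fun α _ => map_one α⟩
        mul_mem' := fun {a b} ha hb => ⟨mul_mem ha.1 hb.1, fun α hα => by
          rw [map_mul, ha.2 α hα, hb.2 α hα]⟩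
        inv_mem' := fun {a} ha => ⟨inv_mem ha.1, fun α hα => by rw [map_inv, ha.2 α hα]⟩ }
    have hWof : ∀ W' : Subgroup S, W' ≤ Subgroup.center S →
        (∃ α, InvertsMod F Z α ∧ ∀ w ∈ W', α w = w) → W' ≤ W := fun W' hW' ⟨α, hα, hfix⟩ w hw =>
      ⟨hW' hw, fun α' hα' => fixed_of_fixed hp hS hF hcard hcomm hZC hα hα' (hW' hw) (hfix w hw)⟩
    refine hfinish W ?_ fun P hP => ?_
    · intro hbot
      obtain ⟨x, hx, hxZ⟩ := hne
      have : W₀ = ⊥ := le_bot_iff.mp (hbot ▸ hWof W₀ hW₀C ⟨α₀, hα₀, hα₀fix⟩)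
      have h := hW₀sup hx
      rw [this, bot_sup_eq] at h
      exact hxZ h
    rcases hP with hPS | hP
    · subst hPS
      refine ⟨Subgroup.map_subtype_le W, fun β hβ x hx => ?_⟩
      obtain ⟨c, hc, hcx⟩ := hx
      have hxc : x = c := Subtype.ext hcx.symm
      subst hxc
      refine ⟨β x, ⟨apply_mem_center β hc.1, fun α hα => ?_⟩, rfl⟩
      rw [commute_on_center hS hF hcard hcomm hZC hα hβ hc.1, hc.2 α hα]
    · obtain ⟨-, -, W', hW'C, hW'sup, hex, hinv⟩ :=
        abelian_essential F hp hS hF hcard hcomm hZC hP (habel P hP)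
      refine ⟨?_, fun β hβ x hx => ?_⟩
      · rintro _ ⟨c, hc, rfl⟩
        exact hess P hP c hc.1
      have hle : W' ≤ W := hWof W' hW'C hex
      have hge : ∀ c ∈ Subgroup.center S, (∀ α, InvertsMod F Z α → α c = c) → c ∈ W' := by
        intro c hc hfix
        obtain ⟨α, hα, hαfix⟩ := hex
        haveI : Z.Normal := inferInstance
        obtain ⟨w, hw, z, hz, rfl⟩ : ∃ w ∈ W', ∃ z ∈ Z, w * z = c := by
          have h := hW'sup hc
          rw [← SetLike.mem_coe, Subgroup.mul_normal] at h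
          exact Set.mem_mul.mp h
        have h1 := hfix α hα
        rw [map_mul, hαfix w hw, hα.2.1 z hz, mul_right_inj] at h1
        have h2 : z ^ 2 = 1 := by
          rw [pow_two]
          nth_rewrite 1 [← h1]
          exact inv_mul_cancel z
        have h3 : orderOf z ∣ Nat.gcd p 2 :=
          Nat.dvd_gcd (hcard ▸ Subgroup.orderOf_dvd_natCard Z hz) (orderOf_dvd_of_pow_eq_one h2)
        rw [(Nat.coprime_primes hpp Nat.prime_two).mpr hp, Nat.dvd_one, orderOf_eq_one_iff] at h3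
        rw [h3, mul_one]
        exact hw
      have heq : W' = W := le_antisymm hle fun c hc => hge c hc.1 hc.2
      exact heq ▸ hinv (fun α hα w hw => (hle hw).2 α hα) hge β hβ x (heq.symm ▸ hx)
  · refine hfinish Z (fun h => ?_) fun P hP => ?_
    · rw [h, Subgroup.card_bot] at hcard
      exact hpp.one_lt.ne hcard
    rcases hP with hPS | hP
    · subst hPS
      refine ⟨Subgroup.map_subtype_le Z, fun β _ x hx => ?_⟩
      obtain ⟨c, hc, hcx⟩ := hx
      have hxc : x = c := Subtype.ext hcx.symm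
      subst hxc
      exact ⟨β x, apply_mem_of_eq_commutator β hcomm hc, rfl⟩
    have hZP : Z.map S.subtype ≤ P := by
      rintro _ ⟨z, hz, rfl⟩
      exact hess P hP z (hZC hz)
    refine ⟨hZP, fun β _ x hx => ?_⟩
    have hle : (commutator P).map P.subtype ≤ Z.map S.subtype := by
      rw [Subgroup.map_le_iff_le_comap, commutator_def, Subgroup.commutator_le]
      intro a _ b _
      exact ⟨⁅(⟨a, hP.1.1 a.2⟩ : S), ⟨b, hP.1.1 b.2⟩⁆, hcomm.le
        (Subgroup.commutator_mem_commutator (Subgroup.mem_top _) (Subgroup.mem_top _)), rfl⟩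
    haveI : Finite (Z.map S.subtype) := finite_of_le (Subgroup.map_subtype_le Z)
    have heq : (commutator P).map P.subtype = Z.map S.subtype := by
      refine Subgroup.eq_of_le_of_card_ge hle ?_
      rw [Subgroup.card_subtype, hcard, Subgroup.card_subtype]
      have hdvd : Nat.card (commutator P) ∣ p := by
        rw [← hcard, ← Subgroup.card_subtype P (commutator P), ← Subgroup.card_subtype S Z]
        exact Subgroup.card_dvd_of_le hle
      rcases (Nat.dvd_prime hpp).mp hdvd with h | h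
      · exfalso
        refine hA ⟨P, hP, ⟨⟨fun a b => ?_⟩⟩⟩
        have hm : ⁅a, b⁆ ∈ commutator P :=
          Subgroup.commutator_mem_commutator (Subgroup.mem_top a) (Subgroup.mem_top b)
        rw [Subgroup.card_eq_one.mp h, Subgroup.mem_bot, commutatorElement_eq_one_iff_mul_comm] at hm
        exact hm
      · exact h.ge
    obtain ⟨d, hd, hdx⟩ := heq.ge hx
    have hxd : x = d := Subtype.ext hdx.symm
    subst hxd
    exact heq.le ⟨β x, apply_mem_of_eq_commutator β rfl hd, rfl⟩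

end CfsgLib.FusionSub
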