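import Cfsg.Agent.Lib.FusionBasics.Group
import Cfsg.Agent.Lib.Alperin.Base
import Mathlib.GroupTheory.Sylow

/-!
A sufficient condition for the fusion system of a finite group to be simple: the Sylow subgroup is
self-normalizing and has no proper nontrivial strongly closed subgroup.
-/

set_option autoImplicit false
set_option linter.style.haveILetI false

namespace CfsgLib.FusionSub

open Cfsg Cfsg.FusionSystem CfsgLib.Alperin

variable {G : Type*} [Group G]

/-- The only subgroups of `P` strongly closed in `P` are `⊥` and `P`. -/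
def NoStronglyClosed (P : Subgroup G) : Prop :=
  ∀ T ≤ P, (∀ x ∈ T, ∀ g : G, g * x * g⁻¹ ∈ P → g * x * g⁻¹ ∈ T) → T = ⊥ ∨ T = P

theorem NoStronglyClosed.map_equiv {H : Type*} [Group H] {P : Subgroup G} (h : NoStronglyClosed P)
    (e : G ≃* H) : NoStronglyClosed (P.map e.toMonoidHom) := by
  intro T hT hcl
  rcases h (T.comap e.toMonoidHom) (fun x hx => by
    obtain ⟨y, hy, hyx⟩ := hT hx
    rwa [← e.injective hyx]) (fun x hx g hg => by
      show e (g * x * g⁻¹) ∈ T
      rw [map_mul, map_mul, map_inv]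
      refine hcl (e x) hx (e g) ⟨g * x * g⁻¹, hg, ?_⟩
      simp) with hb | hb
  · exact Or.inl (by rw [← Subgroup.map_comap_eq_self_of_surjective (f := e.toMonoidHom) e.surjective T, hb,
      Subgroup.map_bot])
  · exact Or.inr (by rw [← Subgroup.map_comap_eq_self_of_surjective (f := e.toMonoidHom) e.surjective T, hb])

theorem normalizer_le_map_equiv {H : Type*} [Group H] {P : Subgroup G}
    (h : Subgroup.normalizer (P : Set G) ≤ P) (e : G ≃* H) :
    Subgroup.normalizer ((P.map e.toMonoidHom : Subgroup H) : Set H) ≤ P.map e.toMonoidHom := by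
  intro x hx
  obtain ⟨g, rfl⟩ := e.surjective x
  refine ⟨g, h (Subgroup.mem_normalizer_iff.mpr fun y => ?_), rfl⟩
  have h1 := Subgroup.mem_normalizer_iff.mp hx (e y)
  have key : ∀ z : G, e z ∈ P.map e.toMonoidHom ↔ z ∈ P := fun z =>
    ⟨fun ⟨w, hw, he⟩ => e.injective he ▸ hw, fun hz => ⟨z, hz, rfl⟩⟩
  rw [key, ← map_mul, ← map_inv, ← map_mul, key] at h1
  exact h1

/-- The criterion. -/
theorem isSimple_groupFusionSystem [Finite G] {p : ℕ} [Fact p.Prime] (S : Sylow p G)
    (hne : (S : Subgroup G) ≠ ⊥) (hsc : NoStronglyClosed (S : Subgroup G))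
    (hN : Subgroup.normalizer ((S : Subgroup G) : Set G) ≤ S) :
    (groupFusionSystem (S : Subgroup G)).IsSimple p := by
  refine ⟨CfsgLib.FusionBasics.group_isSaturated S, hne, ?_⟩
  intro T E hE
  obtain ⟨⟨-, -, hsub, hT, -, hfr⟩, -⟩ := hE
  rcases hsc T hT.1 (fun x hx g hg => by
    have hle : Subgroup.zpowers x ≤ T := Subgroup.zpowers_le.mpr hx
    have hmem : conjHom (Subgroup.zpowers x) g ∈
        (groupFusionSystem (S : Subgroup G)).Hom (Subgroup.zpowers x) := by
      refine ⟨hle.trans hT.1, ?_, g, fun y => rfl⟩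
      rintro ⟨y, n, rfl⟩
      show g * x ^ n * g⁻¹ ∈ (S : Subgroup G)
      rw [← conj_zpow]
      exact zpow_mem hg n
    exact hT.2 _ hle _ hmem ⟨x, Subgroup.mem_zpowers x⟩) with h | h
  · exact Or.inl h
  refine Or.inr ⟨h, fun P => ?_⟩
  subst h
  refine Set.Subset.antisymm (hsub P) fun φ hφ => ?_
  obtain ⟨α, hα, φ₀, hφ₀, hx⟩ := hfr P (dom_le hφ) φ hφ
  obtain ⟨-, -, g, hg⟩ := (mem_autGroup_iff _ le_rfl).mp hα
  have hgS : g ∈ (S : Subgroup G) := by
    refine hN (Subgroup.mem_normalizer_fintype fun y hy => ?_)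
    have := hg ⟨y, hy⟩
    simp only [MonoidHom.comp_apply] at this
    rw [← this]
    exact Subtype.property _
  have hm : ∀ x : P, φ₀ x ∈ (S : Subgroup G) := apply_mem hφ₀
  exact comp_mem_apply hφ₀ (E.conj_mem le_rfl hgS) hm fun x => (hx x (hm x)).trans (hg ⟨φ₀ x, hm x⟩)

/-- It suffices to check the criterion on one `p`-subgroup of full order. -/
theorem isSimple_groupFusionSystem_of_subgroup [Finite G] {p : ℕ} [Fact p.Prime] {P : Subgroup G}
    {n m : ℕ} (hP : Nat.card P = p ^ n) (hn : n ≠ 0) (hG : Nat.card G = p ^ n * m) (hm : ¬ p ∣ m)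
    (hsc : NoStronglyClosed P) (hN : Subgroup.normalizer (P : Set G) ≤ P) (S : Sylow p G) :
    (groupFusionSystem (S : Subgroup G)).IsSimple p := by
  have hp : p.Prime := Fact.out
  have hmul : (Nat.card G).factorization p = n := by
    rw [hG, Nat.factorization_mul (pow_ne_zero _ hp.ne_zero) (by rintro rfl; exact hm (dvd_zero p))]
    simp [hp.factorization_pow, Nat.factorization_eq_zero_of_not_dvd hm]
  obtain ⟨Q, hQ⟩ : ∃ Q : Sylow p G, (Q : Subgroup G) = P :=
    ⟨Sylow.ofCard P (by rw [hmul, hP]), rfl⟩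
  obtain ⟨g, hg⟩ := MulAction.exists_smul_eq G Q S
  have e : (S : Subgroup G) = P.map (MulAut.conj g).toMonoidHom := by
    rw [← hg, Sylow.coe_subgroup_smul, Subgroup.pointwise_smul_def, hQ]
    rfl
  refine isSimple_groupFusionSystem S ?_ (e ▸ hsc.map_equiv (MulAut.conj g))
    (by rw [e]; exact normalizer_le_map_equiv hN (MulAut.conj g))
  intro hb
  have hc : Nat.card (S : Subgroup G) = p ^ n := by
    rw [e, Subgroup.card_map_of_injective (MulAut.conj g).injective, hP]
  rw [hb, Subgroup.card_bot] at hc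
  exact absurd hc.symm (Nat.one_lt_pow hn hp.one_lt).ne'

end CfsgLib.FusionSub
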