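import Cfsg.Agent.Lib.FusionSub.GroupSimple
import Cfsg.Agent.Lib.OutMathieu.MultTwo

/-!
A certificate checker: a Sylow `2`-subgroup of a subgroup `stabK sets` of `M24` is self-normalizing and
has no proper nontrivial strongly closed subgroup.
-/

set_option autoImplicit false
set_option linter.style.haveILetI false

namespace CfsgLib.FusionSub.Mathieu

open Cfsg CfsgLib.Golay CfsgLib.OutMathieu
open scoped Pointwise

/-- Search trees of tables. -/
inductive BT where
  | nil
  | node (l : BT) (v : ℕ) (r : BT)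

/-- Membership test. -/
def BT.mem : BT → ℕ → Bool
  | .nil, _ => false
  | .node l v r, x => bif x == v then true else bif Nat.blt x v then l.mem x else r.mem x

/-- The list of a tree. -/
def BT.toList : BT → List ℕ
  | .nil => []
  | .node l v r => l.toList ++ v :: r.toList

theorem BT.mem_toList : ∀ {b : BT} {x : ℕ}, b.mem x = true → x ∈ b.toList
  | .nil, x, h => by simp [BT.mem] at h
  | .node l v r, x, h => by
    simp only [BT.mem] at h
    rw [BT.toList, List.mem_append, List.mem_cons]
    by_cases hx : x = v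
    · exact Or.inr (Or.inl hx)
    · rw [beq_eq_false_iff_ne.mpr hx, cond_false] at h
      cases hb : Nat.blt x v <;> rw [hb] at h
      · exact Or.inr (Or.inr (BT.mem_toList h))
      · exact Or.inl (BT.mem_toList h)

/-- A step of a closure program. -/
inductive Op where
  | mul (i j : ℕ)
  | conj (c i t : ℕ)

/-- The orbit of a point under the permutations of a list of tables. -/
def orbMask (L : List ℕ) (i : ℕ) : ℕ := L.foldr (fun t m => m ||| 2 ^ tblAt t i) 0

/-- The points with orbits of length `k`. -/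
def sizeSet (L : List ℕ) (k : ℕ) : ℕ :=
  ((List.range 24).filter fun i => popc (orbMask L i) == k).foldr (fun i m => m ||| 2 ^ i) 0

/-- Certificate data. -/
structure SylCert where
  /-- the invariant sets cutting out the group -/
  sets : List ℕ
  /-- tables of generators of the Sylow subgroup -/
  gens : List ℕ
  /-- normal forms by increasing tables -/
  order : List ℕ
  /-- the elements of the Sylow subgroup -/
  tree : BT
  /-- table of the central involution -/
  z : ℕ
  /-- closure program starting from `z` -/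
  ops : List Op
  /-- a point -/
  x : ℕ
  /-- orbit lengths of the Sylow subgroup -/
  sizesP : List ℕ
  /-- orbit lengths of the point stabilizer -/
  sizesX : List ℕ
  /-- chain -/
  levels : List (ℕ × List ℕ × List ℕ)
  /-- end of the chain -/
  final : List ℕ

namespace SylCert

variable (c : SylCert)

/-- The normal forms. -/
def nf (k : ℕ) : ℕ := nfTbl c.gens c.gens.length k

/-- The generators and the elements. -/
def elsOK : Bool :=
  (c.gens.all fun t => inM24 t && c.sets.all fun s => imgMask t s == s) &&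
    (c.tree.toList == c.order.map c.nf) && (c.order.length == 2 ^ c.gens.length) &&
    increasing id c.tree.toList && c.tree.mem idTbl &&
    c.tree.toList.all fun v => c.gens.all fun g => c.tree.mem (compTbl v g)

/-- The centre is `{1, z}`. -/
def centerOK : Bool :=
  c.tree.mem c.z && c.tree.toList.all fun v =>
    v == idTbl || v == c.z || c.gens.any fun g => !(compTbl v g == compTbl g v)

/-- Run the closure program. -/
def run : List Op → List ℕ → Option (List ℕ)
  | [], known => some known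
  | .mul i j :: os, known =>
    bif decide (i < known.length) && decide (j < known.length) then
      run os (known ++ [compTbl (known.getD i 0) (known.getD j 0)])
    else none
  | .conj g i t :: os, known =>
    bif decide (i < known.length) && (inM24 g && c.sets.all fun s => imgMask g s == s) &&
        c.tree.mem t && compTbl g (known.getD i 0) == compTbl t g then
      run os (known ++ [t])
    else none

/-- The closure of `z` contains all generators. -/
def closureOK : Bool :=
  match c.run c.ops [c.z] with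
  | none => false
  | some known => c.gens.all fun g => known.contains g

/-- The invariant sets of the normalizer. -/
def setsP : List ℕ := c.sets ++ c.sizesP.map (sizeSet c.tree.toList)

/-- The elements fixing the point. -/
def listX : List ℕ := c.tree.toList.filter fun v => tblAt v c.x == c.x

/-- The invariant sets of the stabilizer of the point in the normalizer. -/
def setsX : List ℕ := 2 ^ c.x :: (c.setsP ++ c.sizesX.map (sizeSet c.listX))

/-- The normalizer is the subgroup. -/
def normOK : Bool :=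
  decide (c.x < 24) &&
    ((List.range 24).all fun j =>
      (c.setsP.any fun s => s.testBit j != s.testBit c.x) ||
        (orbMask c.tree.toList c.x).testBit j) &&
    chainOK c.setsX c.levels c.final && c.levels.all fun l => l.2.2.all fun t => c.tree.mem t

/-- The permutation group generated by the generators. -/
def grp : Subgroup (Equiv.Perm GolayPt) := Subgroup.closure {g | ∃ t ∈ c.gens, IsTbl g t}

end SylCert

attribute [local irreducible] mkTbl

theorem compTbl_eq {g : Equiv.Perm GolayPt} {a b a' b' : ℕ} (h : IsTbl g (compTbl a b))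
    (h' : IsTbl g (compTbl a' b')) : compTbl a b = compTbl a' b' := by
  refine mkTbl_congr 24 fun i hi => ?_
  have h1 := h (pt i)
  have h2 := h' (pt i)
  rw [idx_pt hi, compTbl, tblAt_mkTbl 24 _ hi fun j _ => tblAt_lt a _] at h1
  rw [idx_pt hi, compTbl, tblAt_mkTbl 24 _ hi fun j _ => tblAt_lt a' _] at h2
  rw [← h1, ← h2]

theorem testBit_orbMask {L : List ℕ} {i j : ℕ} :
    (orbMask L i).testBit j = true ↔ ∃ t ∈ L, tblAt t i = j := by
  induction L with
  | nil => simp [orbMask]
  | cons a L ih =>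
    rw [orbMask, List.foldr_cons, ← orbMask, Nat.testBit_or, Bool.or_eq_true, ih,
      Nat.testBit_two_pow]
    simp only [List.mem_cons, exists_eq_or_imp, decide_eq_true_eq]
    exact or_comm

theorem testBit_sizeSet {L : List ℕ} {k j : ℕ} :
    (sizeSet L k).testBit j = true ↔ j < 24 ∧ popc (orbMask L j) = k := by
  have key : ∀ (l : List ℕ), (l.foldr (fun i m => m ||| 2 ^ i) 0).testBit j = true ↔ j ∈ l := by
    intro l
    induction l with
    | nil => simp
    | cons a l ih =>
      rw [List.foldr_cons, Nat.testBit_or, Bool.or_eq_true, ih, Nat.testBit_two_pow,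
        decide_eq_true_eq, List.mem_cons, eq_comm, or_comm]
  rw [sizeSet, key, List.mem_filter, List.mem_range, beq_iff_eq]

variable {H : Subgroup (Equiv.Perm GolayPt)} {L : List ℕ}

theorem mem_orbit (hL : ∀ h, h ∈ H ↔ ∃ t ∈ L, IsTbl h t)
    (hL' : ∀ t ∈ L, ∃ h : Equiv.Perm GolayPt, IsTbl h t) {p q : GolayPt} :
    q ∈ unmask (orbMask L (idx p)) ↔ ∃ h ∈ H, h p = q := by
  rw [mem_unmask, testBit_orbMask]
  constructor
  · rintro ⟨t, ht, he⟩
    obtain ⟨h, hh⟩ := hL' t ht
    exact ⟨h, (hL h).mpr ⟨t, ht, hh⟩, idx_injective ((hh p).trans he)⟩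
  · rintro ⟨h, hh, rfl⟩
    obtain ⟨t, ht, hth⟩ := (hL h).mp hh
    exact ⟨t, ht, (hth p).symm⟩

/-- The normalizer fixes the sets of points with orbits of a given length. -/
theorem smul_sizeSet (hL : ∀ h, h ∈ H ↔ ∃ t ∈ L, IsTbl h t)
    (hL' : ∀ t ∈ L, ∃ h : Equiv.Perm GolayPt, IsTbl h t) {g : Equiv.Perm GolayPt}
    (hg : ∀ y, y ∈ H ↔ g * y * g⁻¹ ∈ H) (k : ℕ) :
    g • unmask (sizeSet L k) = unmask (sizeSet L k) := by
  have horb : ∀ p : GolayPt, g • unmask (orbMask L (idx p)) = unmask (orbMask L (idx (g p))) := by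
    intro p
    ext q
    rw [← Finset.inv_smul_mem_iff, Equiv.Perm.smul_def, mem_orbit hL hL', mem_orbit hL hL']
    constructor
    · rintro ⟨h, hh, he⟩
      refine ⟨g * h * g⁻¹, (hg h).mp hh, ?_⟩
      simp [he]
    · rintro ⟨h, hh, he⟩
      refine ⟨g⁻¹ * h * g, (hg _).mpr (by simpa [mul_assoc] using hh), ?_⟩
      simp [he]
  have hcard : ∀ p : GolayPt, popc (orbMask L (idx (g p))) = popc (orbMask L (idx p)) := by
    intro p
    rw [← card_unmask, ← horb, Finset.card_smul_finset, card_unmask]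
  ext q
  rw [← Finset.inv_smul_mem_iff, Equiv.Perm.smul_def, mem_unmask, mem_unmask, testBit_sizeSet,
    testBit_sizeSet, ← hcard (g⁻¹ q)]
  simp [idx_lt]

namespace SylCert

variable {c : SylCert}

theorem exists_perm {t : ℕ} (h : inM24 t = true) : ∃ g : Equiv.Perm GolayPt, IsTbl g t := by
  refine exists_isTbl ?_
  simp only [inM24, Bool.and_eq_true] at h
  exact h.1

theorem grp_le (h : c.elsOK = true) : c.grp ≤ stabK c.sets := by
  simp only [elsOK, Bool.and_eq_true, List.all_eq_true, beq_iff_eq] at h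
  rw [grp, Subgroup.closure_le]
  rintro g ⟨t, ht, hg⟩
  exact mem_stabK_of_isTbl hg (h.1.1.1.1.1 t ht).1 (h.1.1.1.1.1 t ht).2

theorem gens_perm (h : c.elsOK = true) {t : ℕ} (ht : t ∈ c.gens) :
    ∃ g ∈ c.grp, IsTbl g t := by
  simp only [elsOK, Bool.and_eq_true, List.all_eq_true, beq_iff_eq] at h
  obtain ⟨g, hg⟩ := exists_perm (h.1.1.1.1.1 t ht).1
  exact ⟨g, Subgroup.subset_closure ⟨t, ht, hg⟩, hg⟩

theorem nf_perm (h : c.elsOK = true) (k : ℕ) : ∃ g ∈ c.grp, IsTbl g (c.nf k) := by
  suffices ∀ j, j ≤ c.gens.length → ∃ g ∈ c.grp, IsTbl g (nfTbl c.gens j k) from this _ le_rfl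
  intro j
  induction j with
  | zero => exact fun _ => ⟨1, one_mem _, by rw [nfTbl]; exact isTbl_idTbl⟩
  | succ j ih =>
    intro hj
    obtain ⟨g, hg, hgt⟩ := ih (by omega)
    rw [nfTbl]
    cases k.testBit j
    · exact ⟨g, hg, hgt⟩
    · obtain ⟨g', hg', hgt'⟩ := gens_perm h (List.getElem_mem (show j < c.gens.length by omega))
      refine ⟨g * g', mul_mem hg hg', ?_⟩
      rw [cond_true, List.getD_eq_getElem _ _ (by omega)]
      exact isTbl_compTbl hgt hgt'

theorem tree_perm (h : c.elsOK = true) {t : ℕ} (ht : t ∈ c.tree.toList) :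
    ∃ g ∈ c.grp, IsTbl g t := by
  have h' := h
  simp only [elsOK, Bool.and_eq_true, List.all_eq_true, beq_iff_eq] at h'
  rw [h'.1.1.1.1.2, List.mem_map] at ht
  obtain ⟨k, -, rfl⟩ := ht
  exact nf_perm h k

theorem mem_grp_iff (h : c.elsOK = true) (g : Equiv.Perm GolayPt) :
    g ∈ c.grp ↔ ∃ t ∈ c.tree.toList, IsTbl g t := by
  refine ⟨fun hg => ?_, ?_⟩
  · have h' := h
    simp only [elsOK, Bool.and_eq_true, List.all_eq_true, beq_iff_eq] at h'
    have hstep : ∀ (x : Equiv.Perm GolayPt), (∃ t ∈ c.tree.toList, IsTbl x t) →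
        ∀ y ∈ {g | ∃ t ∈ c.gens, IsTbl g t}, ∀ m : ℕ, ∃ t ∈ c.tree.toList, IsTbl (x * y ^ m) t := by
      intro x hx y hy m
      induction m with
      | zero => simpa using hx
      | succ m ih =>
        obtain ⟨t, ht, htx⟩ := ih
        obtain ⟨u, hu, huy⟩ := hy
        refine ⟨_, BT.mem_toList (h'.2 t ht u hu), ?_⟩
        rw [pow_succ, ← mul_assoc]
        exact isTbl_compTbl htx huy
    induction hg using Subgroup.closure_induction_right with
    | one => exact ⟨idTbl, BT.mem_toList h'.1.2, isTbl_idTbl⟩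
    | mul_right x hx y hy ih => simpa using hstep x ih y hy 1
    | mul_inv_cancel x hx y hy ih =>
      have hpos : 0 < orderOf y := orderOf_pos y
      have e : y⁻¹ = y ^ (orderOf y - 1) := inv_eq_of_mul_eq_one_right (by
        rw [← pow_succ', Nat.sub_add_cancel hpos, pow_orderOf_eq_one])
      rw [e]
      exact hstep x ih y hy _
  · rintro ⟨t, ht, hgt⟩
    obtain ⟨g', hg', hgt'⟩ := tree_perm h ht
    rwa [hgt.ext hgt']

theorem card_grp (h : c.elsOK = true) : Nat.card c.grp = 2 ^ c.gens.length := by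
  have h' := h
  simp only [elsOK, Bool.and_eq_true, List.all_eq_true, beq_iff_eq] at h'
  have hlen : c.tree.toList.length = 2 ^ c.gens.length := by
    rw [h'.1.1.1.1.2, List.length_map]
    exact h'.1.1.1.2
  have hinc := pairwise_of_increasing h'.1.1.2
  choose f hf hft using fun i : Fin c.tree.toList.length =>
    tree_perm h (List.getElem_mem i.2)
  have hbij : Function.Bijective fun i => (⟨f i, hf i⟩ : c.grp) := by
    constructor
    · intro i j hij
      have hij' : f i = f j := congrArg Subtype.val hij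
      have hmemi := List.getElem_mem i.2
      have hmemj := List.getElem_mem j.2
      simp only [h'.1.1.1.1.2, List.mem_map] at hmemi hmemj
      have hi := hft i
      have hj := hft j
      simp only [h'.1.1.1.1.2] at hi hj
      have heq : c.tree.toList[i.1] = c.tree.toList[j.1] := by
        simp only [h'.1.1.1.1.2]
        obtain ⟨k, -, hk⟩ := hmemi
        obtain ⟨k', -, hk'⟩ := hmemj
        rw [← hk] at hi
        rw [← hk'] at hj
        exact hk.symm.trans ((nfTbl_eq hij' hi hj).trans hk')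
      rcases lt_trichotomy i.1 j.1 with hlt | he | hlt
      · exact absurd heq (List.pairwise_iff_getElem.1 hinc i j i.2 j.2 hlt).ne
      · exact Fin.ext he
      · exact absurd heq (List.pairwise_iff_getElem.1 hinc j i j.2 i.2 hlt).ne'
    · rintro ⟨g, hg⟩
      obtain ⟨t, ht, hgt⟩ := (mem_grp_iff h g).mp hg
      obtain ⟨i, hi, rfl⟩ := List.getElem_of_mem ht
      exact ⟨⟨i, hi⟩, Subtype.ext ((hft ⟨i, hi⟩).ext hgt)⟩
  rw [← Nat.card_eq_of_bijective _ hbij, Nat.card_fin, hlen]

theorem run_spec (h : c.elsOK = true) {T : Subgroup (Equiv.Perm GolayPt)}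
    (hT : ∀ x ∈ T, ∀ g ∈ stabK c.sets, g * x * g⁻¹ ∈ c.grp → g * x * g⁻¹ ∈ T) :
    ∀ {os : List Op} {known known' : List ℕ}, c.run os known = some known' →
      (∀ t ∈ known, ∃ g ∈ T, IsTbl g t) → ∀ t ∈ known', ∃ g ∈ T, IsTbl g t
  | [], known, known', hr, hk => by
    simp only [run, Option.some.injEq] at hr
    exact hr ▸ hk
  | .mul i j :: os, known, known', hr, hk => by
    cases hb : (decide (i < known.length) && decide (j < known.length)) <;> rw [run, hb] at hr
    · simp at hr
    simp only [Bool.and_eq_true, decide_eq_true_eq] at hb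
    refine run_spec h hT hr fun t ht => ?_
    rcases List.mem_append.1 ht with ht | ht
    · exact hk t ht
    · rw [List.mem_singleton.1 ht, List.getD_eq_getElem _ _ hb.1, List.getD_eq_getElem _ _ hb.2]
      obtain ⟨a, ha, hat⟩ := hk _ (List.getElem_mem hb.1)
      obtain ⟨b, hb', hbt⟩ := hk _ (List.getElem_mem hb.2)
      exact ⟨a * b, mul_mem ha hb', isTbl_compTbl hat hbt⟩
  | .conj g i t₀ :: os, known, known', hr, hk => by
    cases hb : (decide (i < known.length) && (inM24 g && c.sets.all fun s => imgMask g s == s) &&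
        c.tree.mem t₀ && compTbl g (known.getD i 0) == compTbl t₀ g) <;> rw [run, hb] at hr
    · simp at hr
    simp only [Bool.and_eq_true, decide_eq_true_eq, beq_iff_eq, List.all_eq_true] at hb
    obtain ⟨⟨⟨hi, hgM, hgs⟩, ht₀⟩, he⟩ := hb
    refine run_spec h hT hr fun t ht => ?_
    rcases List.mem_append.1 ht with ht | ht
    · exact hk t ht
    · rw [List.mem_singleton.1 ht]
      rw [List.getD_eq_getElem _ _ hi] at he
      obtain ⟨a, ha, hat⟩ := hk _ (List.getElem_mem hi)
      obtain ⟨gg, hgg⟩ := exists_perm hgM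
      obtain ⟨b, hb', hbt⟩ := tree_perm h (BT.mem_toList ht₀)
      have e : b = gg * a * gg⁻¹ := by
        rw [eq_mul_inv_iff_mul_eq]
        exact (isTbl_compTbl hbt hgg).ext (he ▸ isTbl_compTbl hgg hat)
      refine ⟨b, ?_, hbt⟩
      rw [e] at hb' ⊢
      exact hT a ha gg (mem_stabK_of_isTbl hgg hgM hgs) hb'

theorem isPGroup_grp (h : c.elsOK = true) : IsPGroup 2 c.grp := IsPGroup.of_card (card_grp h)

theorem noStronglyClosed (h : c.elsOK = true) (hc : c.centerOK = true) (hcl : c.closureOK = true)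
    {T : Subgroup (Equiv.Perm GolayPt)} (hTH : T ≤ c.grp)
    (hT : ∀ x ∈ T, ∀ g ∈ stabK c.sets, g * x * g⁻¹ ∈ c.grp → g * x * g⁻¹ ∈ T) :
    T = ⊥ ∨ T = c.grp := by
  rcases eq_or_ne T ⊥ with hb | hb
  · exact Or.inl hb
  refine Or.inr (le_antisymm hTH ?_)
  -- a central element in `T`
  haveI : Finite T := inferInstance
  have hTp : IsPGroup 2 T := (isPGroup_grp h).to_le hTH
  haveI : Nontrivial T := (Subgroup.nontrivial_iff_ne_bot T).mpr hb
  have hdvd : 2 ∣ Nat.card T := hTp.card_eq_or_dvd.resolve_left (Finite.one_lt_card).ne'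
  letI : MulAction c.grp T :=
    { smul := fun g x => ⟨g * x * (g : Equiv.Perm GolayPt)⁻¹, hT x x.2 g (grp_le h g.2)
        (mul_mem (mul_mem g.2 (hTH x.2)) (inv_mem g.2))⟩
      one_smul := fun x => Subtype.ext (by show (1 : Equiv.Perm GolayPt) * x * 1⁻¹ = x; simp)
      mul_smul := fun a b x => Subtype.ext (by
        show ((a * b : c.grp) : Equiv.Perm GolayPt) * x * ((a * b : c.grp) : Equiv.Perm GolayPt)⁻¹ =
          a * (b * x * (b : Equiv.Perm GolayPt)⁻¹) * (a : Equiv.Perm GolayPt)⁻¹
        simp [mul_assoc]) }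
  have h1 : (1 : T) ∈ MulAction.fixedPoints c.grp T := fun g => Subtype.ext (by
    show (g : Equiv.Perm GolayPt) * 1 * (g : Equiv.Perm GolayPt)⁻¹ = 1
    simp)
  obtain ⟨y, hy, hy1⟩ :=
    (isPGroup_grp h).exists_fixed_point_of_prime_dvd_card_of_fixed_point T hdvd h1
  have hycomm : ∀ g ∈ c.grp, g * (y : Equiv.Perm GolayPt) = y * g := fun g hg => by
    have e := congrArg Subtype.val (hy ⟨g, hg⟩)
    exact mul_inv_eq_iff_eq_mul.mp e
  have hc' := hc
  simp only [centerOK, Bool.and_eq_true, List.all_eq_true, Bool.or_eq_true, beq_iff_eq,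
    List.any_eq_true, Bool.not_eq_true', beq_eq_false_iff_ne] at hc'
  obtain ⟨t, ht, hty⟩ := (mem_grp_iff h y).mp (hTH y.2)
  have hz : ∃ g ∈ T, IsTbl g c.z := by
    rcases hc'.2 t ht with (he | he) | ⟨u, hu, hne⟩
    · exfalso
      exact hy1 (Subtype.ext ((hty.ext (he ▸ isTbl_idTbl)).symm))
    · exact ⟨y, y.2, he ▸ hty⟩
    · exfalso
      obtain ⟨g, hg, hgu⟩ := gens_perm h hu
      refine hne (compTbl_eq (isTbl_compTbl hty hgu) ?_)
      rw [← hycomm g hg]
      exact isTbl_compTbl hgu hty
  unfold closureOK at hcl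
  split at hcl
  · simp at hcl
  rename_i known hr
  simp only [List.all_eq_true, List.contains_iff_mem] at hcl
  rw [grp, Subgroup.closure_le]
  rintro g ⟨u, hu, hgu⟩
  obtain ⟨g', hg', hgu'⟩ := run_spec h hT hr
    (fun t ht => by rw [List.mem_singleton.1 ht]; exact hz) u (hcl u hu)
  rwa [hgu.ext hgu']

theorem normalizer_le (h : c.elsOK = true) (hn : c.normOK = true) {g : Equiv.Perm GolayPt}
    (hgK : g ∈ stabK c.sets) (hg : ∀ y, y ∈ c.grp ↔ g * y * g⁻¹ ∈ c.grp) : g ∈ c.grp := by
  simp only [normOK, Bool.and_eq_true, decide_eq_true_eq, List.all_eq_true, List.mem_range,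
    Bool.or_eq_true, List.any_eq_true, bne_iff_ne] at hn
  obtain ⟨⟨⟨hx, horb⟩, hchain⟩, hlev⟩ := hn
  have hL := mem_grp_iff h
  have hL' : ∀ t ∈ c.tree.toList, ∃ h : Equiv.Perm GolayPt, IsTbl h t := fun t ht => by
    obtain ⟨g, -, hg⟩ := tree_perm h ht
    exact ⟨g, hg⟩
  have hfixP : ∀ k : Equiv.Perm GolayPt, k ∈ stabK c.sets →
      (∀ y, y ∈ c.grp ↔ k * y * k⁻¹ ∈ c.grp) → ∀ s ∈ c.setsP, k • unmask s = unmask s := by
    intro k hk hk' s hs
    rcases List.mem_append.1 hs with hs | hs
    · exact (mem_stabK.1 hk).2 s hs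
    · obtain ⟨j, -, rfl⟩ := List.mem_map.1 hs
      exact smul_sizeSet hL hL' hk' j
  -- move the point back
  obtain ⟨p, hp, hpx⟩ : ∃ p ∈ c.grp, p (pt c.x) = g (pt c.x) := by
    rw [← mem_orbit hL hL', idx_pt hx, mem_unmask]
    rcases horb _ (idx_lt (g (pt c.x))) with ⟨s, hs, hne⟩ | ho
    · refine absurd ?_ hne
      rw [Bool.eq_iff_iff, ← mem_unmask, ← pt_mem_unmask hx]
      conv_lhs => rw [← hfixP g hgK hg s hs]
      exact Finset.smul_mem_smul_finset_iff g
    · exact ho
  have hnormal : ∀ y, y ∈ c.grp ↔ p⁻¹ * g * y * (p⁻¹ * g)⁻¹ ∈ c.grp := fun y => by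
    rw [hg y, show p⁻¹ * g * y * (p⁻¹ * g)⁻¹ = p⁻¹ * (g * y * g⁻¹) * p by group]
    refine ⟨fun hy => mul_mem (mul_mem (inv_mem hp) hy) hp, fun hy => ?_⟩
    have := mul_mem (mul_mem hp hy) (inv_mem hp)
    simpa [mul_assoc] using this
  have hk : p⁻¹ * g ∈ stabK c.sets := mul_mem (inv_mem (grp_le h hp)) hgK
  have hkx : (p⁻¹ * g) (pt c.x) = pt c.x := by
    rw [Equiv.Perm.mul_apply, ← hpx]
    exact p.symm_apply_apply _
  set k := p⁻¹ * g with hkdef
  let Hx : Subgroup (Equiv.Perm GolayPt) :=
    c.grp ⊓ MulAction.stabilizer (Equiv.Perm GolayPt) (pt c.x)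
  have hLx : ∀ y, y ∈ Hx ↔ ∃ t ∈ c.listX, IsTbl y t := fun y => by
    constructor
    · rintro ⟨hy, hyx⟩
      obtain ⟨t, ht, hyt⟩ := (hL y).mp hy
      refine ⟨t, List.mem_filter.2 ⟨ht, ?_⟩, hyt⟩
      have e := hyt (pt c.x)
      rw [show y (pt c.x) = pt c.x from hyx, idx_pt hx] at e
      exact beq_iff_eq.2 e.symm
    · rintro ⟨t, ht, hyt⟩
      obtain ⟨ht1, ht2⟩ := List.mem_filter.1 ht
      refine ⟨(hL y).mpr ⟨t, ht1, hyt⟩, idx_injective ?_⟩
      show idx (y (pt c.x)) = idx (pt c.x)
      rw [hyt, idx_pt hx]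
      exact beq_iff_eq.1 ht2
  have hLx' : ∀ t ∈ c.listX, ∃ y : Equiv.Perm GolayPt, IsTbl y t := fun t ht =>
    hL' t (List.mem_filter.1 ht).1
  have hnormx : ∀ y, y ∈ Hx ↔ k * y * k⁻¹ ∈ Hx := fun y => by
    simp only [Hx, Subgroup.mem_inf, MulAction.mem_stabilizer_iff, Equiv.Perm.smul_def,
      ← hnormal y]
    have hki : k⁻¹ (pt c.x) = pt c.x := by
      conv_lhs => rw [← hkx]
      exact k.symm_apply_apply _
    refine and_congr_right fun _ => ?_
    rw [Equiv.Perm.mul_apply, Equiv.Perm.mul_apply, hki]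
    refine ⟨fun e => by rw [e, hkx], fun e => ?_⟩
    exact k.injective (e.trans hkx.symm)
  have hkS : k ∈ stabK c.setsX := by
    refine mem_stabK.2 ⟨(mem_stabK.1 hk).1, fun s hs => ?_⟩
    rcases List.mem_cons.1 hs with rfl | hs
    · rw [unmask_two_pow_of_lt hx, Finset.smul_finset_singleton, Equiv.Perm.smul_def, hkx]
    rcases List.mem_append.1 hs with hs | hs
    · exact hfixP k hk hnormal s hs
    · obtain ⟨j, -, rfl⟩ := List.mem_map.1 hs
      exact smul_sizeSet hLx hLx' hnormx j
  have hkH : k ∈ c.grp := stabK_le hchain (fun l hl t ht g hgt =>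
    (hL g).mpr ⟨t, BT.mem_toList (hlev l hl t ht), hgt⟩) hkS
  have := mul_mem hp hkH
  rwa [hkdef, mul_inv_cancel_left] at this

/-- The conclusion for `K = stabK sets`. -/
theorem isSimple (h : c.elsOK = true) (hc : c.centerOK = true) (hcl : c.closureOK = true)
    (hn : c.normOK = true) (hne : c.gens ≠ []) {K : Subgroup (Equiv.Perm GolayPt)}
    (hK : K = stabK c.sets) {m : ℕ} (hcard : Nat.card K = 2 ^ c.gens.length * m) (hm : ¬ 2 ∣ m)
    [Fact (Nat.Prime 2)] (S : Sylow 2 K) :
    (groupFusionSystem (S : Subgroup K)).IsSimple 2 := by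
  subst hK
  have hle := grp_le h
  refine isSimple_groupFusionSystem_of_subgroup (P := c.grp.subgroupOf (stabK c.sets))
    (n := c.gens.length) ?_ (by simpa using hne) hcard hm (fun T hT hcl' => ?_) ?_ S
  · rw [Nat.card_congr (Subgroup.subgroupOfEquivOfLe hle).toEquiv, card_grp h]
  · have hTH : T.map (stabK c.sets).subtype ≤ c.grp := by
      rintro _ ⟨y, hy, rfl⟩
      exact hT hy
    rcases noStronglyClosed h hc hcl hTH (by
      rintro _ ⟨y, hy, rfl⟩ g hg hmem
      exact ⟨⟨g, hg⟩ * y * ⟨g, hg⟩⁻¹, hcl' y hy ⟨g, hg⟩ hmem, rfl⟩) with hb | hb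
    · exact Or.inl ((Subgroup.map_eq_bot_iff_of_injective _ (Subgroup.subtype_injective _)).mp hb)
    · refine Or.inr (le_antisymm hT fun y hy => ?_)
      obtain ⟨w, hw, he⟩ := hb.ge (Subgroup.mem_subgroupOf.mp hy)
      rwa [← Subtype.ext he]
  · intro y hy
    refine Subgroup.mem_subgroupOf.mpr (normalizer_le h hn y.2 fun z => ?_)
    constructor
    · intro hz
      exact Subgroup.mem_subgroupOf.mp ((Subgroup.mem_normalizer_iff.mp hy ⟨z, hle hz⟩).mp
        (Subgroup.mem_subgroupOf.mpr hz))
    · intro hz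
      have hzK : z ∈ stabK c.sets := by
        have := mul_mem (mul_mem (inv_mem y.2) (hle hz)) y.2
        simpa [mul_assoc] using this
      exact Subgroup.mem_subgroupOf.mp ((Subgroup.mem_normalizer_iff.mp hy ⟨z, hzK⟩).mpr
        (Subgroup.mem_subgroupOf.mpr hz))

end SylCert

end CfsgLib.FusionSub.Mathieu
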