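import Cfsg.Agent.Lib.FusionExamples.Transvection
import Mathlib.GroupTheory.Sylow

/-!
Groups of automorphisms of an abelian group whose Sylow subgroup consists of transvections with a
common centre of prime order.
-/

set_option autoImplicit false
set_option linter.style.haveILetI false
set_option linter.unusedSectionVars false

namespace CfsgLib.FusionSub

open Cfsg

variable {p : ℕ} [hp : Fact p.Prime] {V : Type*} [CommGroup V] [Finite V]

/-- The transvections in `X` with centre `Z`. -/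
def transvections (X : Subgroup (MulAut V)) (Z : Subgroup V) : Subgroup X where
  carrier := {v | (∀ z ∈ Z, (v : MulAut V) z = z) ∧ ∀ e, e⁻¹ * (v : MulAut V) e ∈ Z}
  one_mem' := ⟨fun z _ => rfl, fun e => by simp⟩
  mul_mem' := by
    rintro a b ⟨ha, ha'⟩ ⟨hb, hb'⟩
    refine ⟨fun z hz => ?_, fun e => ?_⟩
    · show (a : MulAut V) ((b : MulAut V) z) = z
      rw [hb z hz, ha z hz]
    · show e⁻¹ * (a : MulAut V) ((b : MulAut V) e) ∈ Z
      have h : (a : MulAut V) (e * (e⁻¹ * (b : MulAut V) e)) =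
          (a : MulAut V) e * (e⁻¹ * (b : MulAut V) e) := by rw [map_mul, ha _ (hb' e)]
      rw [mul_inv_cancel_left] at h
      rw [h, ← mul_assoc]
      exact Z.mul_mem (ha' e) (hb' e)
  inv_mem' := by
    rintro a ⟨ha, ha'⟩
    refine ⟨fun z hz => ?_, fun e => ?_⟩
    · apply (a : MulAut V).injective
      show (a : MulAut V) ((a : MulAut V).symm z) = (a : MulAut V) z
      rw [MulEquiv.apply_symm_apply, ha z hz]
    · have h := Z.inv_mem (ha' ((a : MulAut V).symm e))
      rw [MulEquiv.apply_symm_apply, mul_inv_rev, inv_inv] at h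
      exact h

theorem mem_transvections {X : Subgroup (MulAut V)} {Z : Subgroup V} {v : X} :
    v ∈ transvections X Z ↔ (∀ z ∈ Z, (v : MulAut V) z = z) ∧ ∀ e, e⁻¹ * (v : MulAut V) e ∈ Z :=
  Iff.rfl

theorem isPGroup_transvections (X : Subgroup (MulAut V)) {Z : Subgroup V} (hZ : Nat.card Z = p) :
    IsPGroup p (transvections X Z) := fun ⟨v, hv⟩ => ⟨1, Subtype.ext (Subtype.ext (MulEquiv.ext fun e => by
    rw [pow_one]
    show ((v ^ p : X) : MulAut V) e = e
    rw [Subgroup.coe_pow, FusionExamples.Transvection.pow_apply fun x => hv.1 _ (hv.2 x)]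
    have h : (e⁻¹ * (v : MulAut V) e) ^ p = 1 := by
      rw [← hZ]
      exact orderOf_dvd_iff_pow_eq_one.mp (Subgroup.orderOf_dvd_natCard _ (hv.2 e))
    rw [h, mul_one]))⟩

theorem inf_eq_bot_of_card_prime {Z Z' : Subgroup V} (hZ : Nat.card Z = p)
    (hZ' : Nat.card Z' = p) (hne : Z' ≠ Z) : Z' ⊓ Z = ⊥ := by
  rcases (Nat.dvd_prime hp.out).mp (hZ' ▸ Subgroup.card_dvd_of_le (inf_le_left : Z' ⊓ Z ≤ Z')) with h | h
  · exact Subgroup.card_eq_one.mp h
  · have h1 : Z' ≤ Z := inf_eq_left.mp (Subgroup.eq_of_le_of_card_ge inf_le_left (by rw [h, hZ']))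
    exact absurd (Subgroup.eq_of_le_of_card_ge h1 (by rw [hZ, hZ'])) hne

/-- A group of automorphisms with trivial `O_p` whose Sylow subgroup `R ≠ 1` fixes `C` pointwise, has
fixed subgroup `C` and displacements in a subgroup `Z ≤ C` of order `p`. -/
theorem transvection_centre (hV : IsPGroup p V) {X : Subgroup (MulAut V)} (R : Sylow p X) (hR : (R : Subgroup X) ≠ ⊥)
    {Z C : Subgroup V} (hZ : Nat.card Z = p) (hZC : Z ≤ C)
    (hfix : ∀ v ∈ (R : Subgroup X), ∀ e ∈ C, (v : MulAut V) e = e)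
    (hdisp : ∀ v ∈ (R : Subgroup X), ∀ e, e⁻¹ * (v : MulAut V) e ∈ Z)
    (hC : ∀ e, (∀ v ∈ (R : Subgroup X), (v : MulAut V) e = e) → e ∈ C)
    (hcore : pCore p X = ⊥) :
    Nat.card (R : Subgroup X) ≤ p ∧ C.index ≤ p ∧
    (∃ g : X, Z.map (g : MulAut V).toMonoidHom ≠ Z) ∧
    (∀ g : X, Z.map (g : MulAut V).toMonoidHom = Z → C.map (g : MulAut V).toMonoidHom = C) ∧
    ∀ g : X, Z.map (g : MulAut V).toMonoidHom ≠ Z → ∃ h : X,
      (∀ v ∈ (R : Subgroup X), h * v = v * h) ∧ (∀ z ∈ Z, (h : MulAut V) z = z⁻¹) ∧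
      (∀ e ∈ C ⊓ C.map (g : MulAut V).toMonoidHom, (h : MulAut V) e = e) ∧
      C ≤ (C ⊓ C.map (g : MulAut V).toMonoidHom) ⊔ Z := by
  classical
  haveI : Finite (MulAut V) := Finite.of_injective (fun a : MulAut V => (a : V → V))
    fun _ _ h => MulEquiv.ext (congrFun h)
  set K := transvections X Z
  have hRK : (R : Subgroup X) ≤ K := fun v hv => ⟨fun z hz => hfix v hv z (hZC hz), hdisp v hv⟩
  have hKR : K = (R : Subgroup X) := R.is_maximal' (isPGroup_transvections X hZ) hRK
  have hcard : ∀ g : X, Nat.card (Z.map (g : MulAut V).toMonoidHom) = p := fun g => by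
    rw [Subgroup.card_map_of_injective (g : MulAut V).injective, hZ]
  -- an element of `R` fixing another centre pointwise is trivial
  have hkey : ∀ g : X, Z.map (g : MulAut V).toMonoidHom ≠ Z → ∀ a ∈ (R : Subgroup X),
      (∀ z ∈ Z.map (g : MulAut V).toMonoidHom, (a : MulAut V) z = z) → a = 1 := by
    intro g hg a ha haz
    set Z' := Z.map (g : MulAut V).toMonoidHom
    let R' : Sylow p X := g • R
    have hle : (R' : Subgroup X) ≤ transvections X Z' := by
      intro v hv
      rw [Sylow.coe_subgroup_smul] at hv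
      obtain ⟨u, hu, rfl⟩ := hv
      refine ⟨?_, fun e => ?_⟩
      · rintro _ ⟨z, hz, rfl⟩
        show (g : MulAut V) ((u : MulAut V) ((g : MulAut V).symm ((g : MulAut V) z))) = (g : MulAut V) z
        rw [MulEquiv.symm_apply_apply, hfix u hu z (hZC hz)]
      · refine ⟨_, hdisp u hu ((g : MulAut V).symm e), ?_⟩
        show (g : MulAut V) (((g : MulAut V).symm e)⁻¹ * (u : MulAut V) ((g : MulAut V).symm e)) =
          e⁻¹ * (g : MulAut V) ((u : MulAut V) ((g : MulAut V).symm e))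
        rw [map_mul, map_inv, MulEquiv.apply_symm_apply]
    have hK' : transvections X Z' = (R' : Subgroup X) :=
      R'.is_maximal' (isPGroup_transvections X (hcard g)) hle
    have hconj : ∀ w ∈ transvections X Z', a * w * a⁻¹ ∈ transvections X Z' := by
      intro w hw
      have hinv : ∀ z ∈ Z', (a : MulAut V).symm z = z := fun z hz => by
        conv_lhs => rw [← haz z hz]
        exact (a : MulAut V).symm_apply_apply z
      refine ⟨fun z hz => ?_, fun e => ?_⟩
      · show (a : MulAut V) ((w : MulAut V) ((a : MulAut V).symm z)) = z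
        rw [hinv z hz, hw.1 z hz, haz z hz]
      · show e⁻¹ * (a : MulAut V) ((w : MulAut V) ((a : MulAut V).symm e)) ∈ Z'
        have h := haz _ (hw.2 ((a : MulAut V).symm e))
        rw [map_mul, map_inv, MulEquiv.apply_symm_apply] at h
        rw [h]
        exact hw.2 _
    have hN : Subgroup.zpowers a ≤ Subgroup.normalizer (transvections X Z' : Set X) :=
      Subgroup.zpowers_le.mpr (Subgroup.mem_normalizer_fintype hconj)
    have hpa : IsPGroup p (Subgroup.zpowers a) := R.2.to_le (Subgroup.zpowers_le.mpr ha)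
    have hmax : Subgroup.zpowers a ⊔ transvections X Z' = (R' : Subgroup X) :=
      R'.is_maximal' (IsPGroup.to_sup_of_normal_right' hpa (isPGroup_transvections X (hcard g)) hN)
        (hK'.ge.trans le_sup_right)
    have ha' : a ∈ transvections X Z' := by
      rw [hK', ← hmax]
      exact Subgroup.mem_sup_left (Subgroup.mem_zpowers a)
    refine Subtype.ext (MulEquiv.ext fun e => ?_)
    have h1 : e⁻¹ * (a : MulAut V) e ∈ Z' ⊓ Z := ⟨ha'.2 e, hdisp a ha e⟩
    rw [inf_eq_bot_of_card_prime hZ (hcard g) hg, Subgroup.mem_bot, inv_mul_eq_one] at h1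
    exact h1.symm
  -- some element moves the centre
  have hmove : ∃ g : X, Z.map (g : MulAut V).toMonoidHom ≠ Z := by
    by_contra! hall
    haveI : K.Normal := ⟨fun v hv g => by
      have hback : ∀ z ∈ Z, (g : MulAut V).symm z ∈ Z := fun z hz => by
        obtain ⟨z', hz', rfl⟩ := (hall g).ge hz
        show (g : MulAut V).symm ((g : MulAut V) z') ∈ Z
        rwa [MulEquiv.symm_apply_apply]
      refine ⟨fun z hz => ?_, fun e => ?_⟩
      · show (g : MulAut V) ((v : MulAut V) ((g : MulAut V).symm z)) = z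
        rw [hv.1 _ (hback z hz), MulEquiv.apply_symm_apply]
      · refine (hall g).le ⟨_, hv.2 ((g : MulAut V).symm e), ?_⟩
        show (g : MulAut V) (((g : MulAut V).symm e)⁻¹ * (v : MulAut V) ((g : MulAut V).symm e)) =
          e⁻¹ * (g : MulAut V) ((v : MulAut V) ((g : MulAut V).symm e))
        rw [map_mul, map_inv, MulEquiv.apply_symm_apply]⟩
    have : K ≤ pCore p X := le_sSup ⟨inferInstance, isPGroup_transvections X hZ⟩
    exact hR (le_bot_iff.mp (hKR ▸ hcore ▸ this))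
  obtain ⟨z₀, hz₀, hz₀1⟩ := Z.bot_or_exists_ne_one.resolve_left (fun h => by
    rw [h, Subgroup.card_bot] at hZ
    exact hp.out.one_lt.ne hZ)
  have hzgen : ∀ {W : Subgroup V}, Nat.card W = p → ∀ {w : V}, w ∈ W → w ≠ 1 → W = Subgroup.zpowers w := by
    intro W hW w hw hw1
    refine (Subgroup.eq_of_le_of_card_ge (Subgroup.zpowers_le.mpr hw) ?_).symm
    rw [hW, Nat.card_zpowers]
    rcases (Nat.dvd_prime hp.out).mp (hW ▸ Subgroup.orderOf_dvd_natCard W hw) with h | h
    · exact absurd (orderOf_eq_one_iff.mp h) hw1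
    · rw [h]
  have hne : ∀ g : X, (g : MulAut V) z₀ ≠ 1 := fun g h =>
    hz₀1 ((g : MulAut V).injective (by rw [h, map_one]))
  -- the displacement of a moved point
  have hdel : ∀ g : X, Z.map (g : MulAut V).toMonoidHom ≠ Z → ∀ a ∈ (R : Subgroup X),
      (a : MulAut V) ((g : MulAut V) z₀) = (g : MulAut V) z₀ → a = 1 := by
    intro g hg a ha h
    refine hkey g hg a ha fun z hz => ?_
    rw [hzgen (hcard g) (Subgroup.mem_map_of_mem _ hz₀) (hne g)] at hz
    obtain ⟨i, rfl⟩ := hz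
    simp [h]
  obtain ⟨g₀, hg₀⟩ := hmove
  have hcardR : Nat.card (R : Subgroup X) ≤ p := by
    refine le_of_le_of_eq ?_ hZ
    let y := (g₀ : MulAut V) z₀
    refine Nat.card_le_card_of_injective
      (fun a : (R : Subgroup X) => (⟨y⁻¹ * ((a : X) : MulAut V) y, hdisp _ a.2 y⟩ : Z)) fun a b hab => ?_
    have h1 : ((a : X) : MulAut V) y = ((b : X) : MulAut V) y := mul_left_cancel (congrArg Subtype.val hab)
    have h2 := hdel g₀ hg₀ ((b : X)⁻¹ * a) ((R : Subgroup X).mul_mem ((R : Subgroup X).inv_mem b.2) a.2) (by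
      show (((b : X) : MulAut V)).symm (((a : X) : MulAut V) y) = y
      rw [h1, MulEquiv.symm_apply_apply])
    exact Subtype.ext (inv_mul_eq_one.mp h2).symm
  obtain ⟨a₀, ha₀, ha₀1⟩ := (R : Subgroup X).bot_or_exists_ne_one.resolve_left hR
  have hgen : ∀ v ∈ (R : Subgroup X), v ∈ Subgroup.zpowers a₀ := by
    have h : Subgroup.zpowers a₀ = (R : Subgroup X) := by
      refine Subgroup.eq_of_le_of_card_ge (Subgroup.zpowers_le.mpr ha₀) (hcardR.trans ?_)
      rw [Nat.card_zpowers]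
      obtain ⟨k, hk⟩ := IsPGroup.iff_orderOf.mp R.2 ⟨a₀, ha₀⟩
      rw [Subgroup.orderOf_mk] at hk
      rw [hk]
      refine Nat.le_self_pow ?_ p
      rintro rfl
      exact ha₀1 (orderOf_eq_one_iff.mp (by rw [hk, pow_zero]))
    exact fun v hv => h.ge hv
  have hfixC : ∀ e, (a₀ : MulAut V) e = e → e ∈ C := by
    intro e he
    refine hC e fun v hv => ?_
    obtain ⟨i, rfl⟩ := hgen v hv
    have : a₀ ∈ (MulAction.stabilizer (MulAut V) e).comap X.subtype := he
    exact Subgroup.zpow_mem _ this i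
  have hidx : C.index ≤ p := by
    let δ : V →* Z :=
      MonoidHom.mk' (fun e => ⟨e⁻¹ * (a₀ : MulAut V) e, hdisp _ ha₀ e⟩) fun e f => Subtype.ext (by
        show (e * f)⁻¹ * (a₀ : MulAut V) (e * f) = (e⁻¹ * (a₀ : MulAut V) e) * (f⁻¹ * (a₀ : MulAut V) f)
        rw [map_mul, mul_inv, mul_mul_mul_comm])
    have hker : δ.ker ≤ C := fun e he => hfixC e (inv_mul_eq_one.mp (congrArg Subtype.val he)).symm
    refine le_trans (Nat.le_of_dvd (Nat.pos_of_ne_zero Subgroup.index_ne_zero_of_finite)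
      (Subgroup.index_dvd_of_le hker)) (le_of_le_of_eq ?_ hZ)
    rw [Subgroup.index_ker]
    exact Subgroup.card_le_card_group _
  refine ⟨hcardR, hidx, ⟨g₀, hg₀⟩, fun g hg => ?_, fun g hg => ?_⟩
  · -- the normalizer of the centre stabilizes `C`
    have hsub : ∀ (k : X), Z.map (k : MulAut V).toMonoidHom = Z → ∀ e ∈ C, (k : MulAut V) e ∈ C := by
      intro k hk e he
      refine hC _ fun v hv => ?_
      have hmem : k⁻¹ * v * k ∈ K := by
        refine ⟨fun z hz => ?_, fun f => ?_⟩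
        · show (k : MulAut V).symm ((v : MulAut V) ((k : MulAut V) z)) = z
          have hkz : (k : MulAut V) z ∈ Z := hk.le ⟨z, hz, rfl⟩
          rw [(hRK hv).1 _ hkz, MulEquiv.symm_apply_apply]
        · obtain ⟨z, hz, he'⟩ := hk.ge (hdisp v hv ((k : MulAut V) f))
          show f⁻¹ * (k : MulAut V).symm ((v : MulAut V) ((k : MulAut V) f)) ∈ Z
          replace he' : (k : MulAut V) z = ((k : MulAut V) f)⁻¹ * (v : MulAut V) ((k : MulAut V) f) := he'
          have h2 := congrArg (k : MulAut V).symm he'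
          rw [MulEquiv.symm_apply_apply, map_mul, map_inv, MulEquiv.symm_apply_apply] at h2
          rwa [← h2]
      rw [hKR] at hmem
      have h3 : (k : MulAut V).symm ((v : MulAut V) ((k : MulAut V) e)) = e := hfix _ hmem e he
      exact (MulEquiv.symm_apply_eq _).mp h3
    refine Subgroup.eq_of_le_of_card_ge ?_ (by rw [Subgroup.card_map_of_injective (g : MulAut V).injective])
    rintro _ ⟨e, he, rfl⟩
    exact hsub g hg e he
  · set y := (g : MulAut V) z₀ with hy
    set D := C.map (g : MulAut V).toMonoidHom with hD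
    have hyC : y ∉ C := fun h => ha₀1 (hdel g hg a₀ ha₀ (hfix _ ha₀ y h))
    have hyD : y ∈ D := ⟨z₀, hZC hz₀, rfl⟩
    have hg' : Z.map ((g⁻¹ : X) : MulAut V).toMonoidHom ≠ Z := fun h => hg (by
      conv_lhs => rw [← h, Subgroup.map_map]
      convert Subgroup.map_id Z
      exact MonoidHom.ext fun x => (g : MulAut V).apply_symm_apply x)
    have hzD : z₀ ∉ D := by
      rintro ⟨c, hc, hce⟩
      refine ha₀1 (hdel g⁻¹ hg' a₀ ha₀ (hfix _ ha₀ _ ?_))
      show (g : MulAut V).symm z₀ ∈ C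
      rw [← hce]
      exact ((g : MulAut V).symm_apply_apply c).symm ▸ hc
    -- every element of `V` decomposes along `C` and `y`, every element of `C` along `C ⊓ D` and `z₀`
    have hgenV : ∀ (H : Subgroup V), H.index ≤ p → ∀ v ∉ H, H ⊔ Subgroup.zpowers v = ⊤ := by
      intro H hH v hv
      rw [← Subgroup.index_eq_one]
      have hlt : H < H ⊔ Subgroup.zpowers v := lt_of_le_of_ne le_sup_left fun h =>
        hv (h.ge (Subgroup.mem_sup_right (Subgroup.mem_zpowers v)))
      have hmul := Subgroup.relIndex_mul_index hlt.le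
      obtain ⟨k, hk⟩ := hV.index (H ⊔ Subgroup.zpowers v)
      obtain ⟨l, hl⟩ := hV.index H
      have hl1 : l ≤ 1 := (Nat.pow_le_pow_iff_right hp.out.one_lt).mp (by rwa [pow_one, ← hl])
      have hr : H.relIndex (H ⊔ Subgroup.zpowers v) ≠ 1 := fun h =>
        hlt.not_ge (Subgroup.relIndex_eq_one.mp h)
      rcases Nat.eq_zero_or_pos k with rfl | hk0
      · simpa using hk
      exfalso
      rw [hk, hl] at hmul
      have hkl : p ^ l ≤ p ^ k := Nat.pow_le_pow_right hp.out.pos (by omega)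
      have hpk : 0 < p ^ k := Nat.pow_pos hp.out.pos
      rcases Nat.lt_or_ge (H.relIndex (H ⊔ Subgroup.zpowers v)) 2 with h2 | h2
      · have h0 : H.relIndex (H ⊔ Subgroup.zpowers v) = 0 := by omega
        rw [h0, zero_mul] at hmul
        exact (Nat.pow_pos hp.out.pos).ne hmul
      · nlinarith [hmul, hkl, hpk, h2]
    have hto : ∀ k : X, Z.map (k : MulAut V).toMonoidHom ≠ Z → ∀ z ∈ Z, ∃ a ∈ (R : Subgroup X),
        (a : MulAut V) ((k : MulAut V) z₀) = (k : MulAut V) z₀ * z := by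
      intro k hk z hz
      set u := (k : MulAut V) z₀
      have hd1 : u⁻¹ * (a₀ : MulAut V) u ≠ 1 := fun h =>
        ha₀1 (hdel k hk a₀ ha₀ (inv_mul_eq_one.mp h).symm)
      rw [hzgen hZ (hdisp _ ha₀ u) hd1, ← mem_powers_iff_mem_zpowers, Submonoid.mem_powers_iff] at hz
      obtain ⟨i, rfl⟩ := hz
      refine ⟨a₀ ^ i, Subgroup.pow_mem _ ha₀ i, ?_⟩
      rw [Subgroup.coe_pow]
      exact FusionExamples.Transvection.pow_apply (fun x => hfix _ ha₀ _ (hZC (hdisp _ ha₀ x))) i u
    obtain ⟨t₁, ht₁, ht₁y⟩ := hto g hg z₀ hz₀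
    obtain ⟨a₂, ha₂, ha₂y⟩ := hto g⁻¹ hg' z₀⁻¹ (Z.inv_mem hz₀)
    set t₂ : X := g * a₂ * g⁻¹
    have h2z : (t₂ : MulAut V) z₀ = z₀ * y⁻¹ := by
      show (g : MulAut V) ((a₂ : MulAut V) ((g : MulAut V).symm z₀)) = _
      have e : (a₂ : MulAut V) ((g : MulAut V).symm z₀) = (g : MulAut V).symm z₀ * z₀⁻¹ := ha₂y
      rw [e, map_mul, map_inv, MulEquiv.apply_symm_apply]
    have h2D : ∀ e ∈ D, (t₂ : MulAut V) e = e := by
      rintro _ ⟨c, hc, rfl⟩
      show (g : MulAut V) ((a₂ : MulAut V) ((g : MulAut V).symm ((g : MulAut V) c))) = (g : MulAut V) c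
      rw [MulEquiv.symm_apply_apply, hfix _ ha₂ c hc]
    have h1C := hfix t₁ ht₁
    have h1z : (t₁ : MulAut V) z₀ = z₀ := h1C _ (hZC hz₀)
    set w : X := t₁ * t₂ * t₁
    have hwz : (w : MulAut V) z₀ = y⁻¹ := by
      show (t₁ : MulAut V) ((t₂ : MulAut V) ((t₁ : MulAut V) z₀)) = _
      rw [h1z, h2z, map_mul, map_inv, h1z, ht₁y, mul_inv_rev, mul_inv_cancel_left]
    have hwy : (w : MulAut V) y = z₀ := by
      show (t₁ : MulAut V) ((t₂ : MulAut V) ((t₁ : MulAut V) y)) = _
      rw [ht₁y, map_mul, h2D y hyD, h2z, mul_left_comm, mul_inv_cancel, mul_one, h1z]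
    have hwW : ∀ e ∈ C ⊓ D, (w : MulAut V) e = e := fun e he => by
      show (t₁ : MulAut V) ((t₂ : MulAut V) ((t₁ : MulAut V) e)) = _
      rw [h1C e he.1, h2D e he.2, h1C e he.1]
    have hhW : ∀ e ∈ C ⊓ D, ((w * w : X) : MulAut V) e = e := fun e he => by
      show (w : MulAut V) ((w : MulAut V) e) = e
      rw [hwW e he, hwW e he]
    have hhz : ((w * w : X) : MulAut V) z₀ = z₀⁻¹ := by
      show (w : MulAut V) ((w : MulAut V) z₀) = _
      rw [hwz, map_inv, hwy]
    have hhy : ((w * w : X) : MulAut V) y = y⁻¹ := by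
      show (w : MulAut V) ((w : MulAut V) y) = _
      rw [hwy, hwz]
    have hCle : C ≤ (C ⊓ D) ⊔ Z := by
      intro c hc
      have hDidx : D.index ≤ p := by
        rwa [hD, Subgroup.index_map_of_bijective (g : MulAut V).bijective]
      obtain ⟨d, hd, b, hb, rfl⟩ := Subgroup.mem_sup.mp
        ((hgenV D hDidx z₀ hzD).ge (Subgroup.mem_top c))
      have hbZ : b ∈ Z := Subgroup.zpowers_le.mpr hz₀ hb
      refine Subgroup.mul_mem_sup ⟨?_, hd⟩ hbZ
      have := C.mul_mem hc (C.inv_mem (hZC hbZ))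
      rwa [mul_inv_cancel_right] at this
    have hhZ : ∀ z ∈ Z, ((w * w : X) : MulAut V) z = z⁻¹ := by
      intro z hz
      rw [hzgen hZ hz₀ hz₀1] at hz
      obtain ⟨i, rfl⟩ := hz
      show ((w * w : X) : MulAut V) (z₀ ^ i) = (z₀ ^ i)⁻¹
      rw [map_zpow, hhz, inv_zpow]
    have hhC : ∀ c ∈ C, ((w * w : X) : MulAut V) c ∈ C := by
      intro c hc
      obtain ⟨e, he, b, hb, rfl⟩ := Subgroup.mem_sup.mp (hCle hc)
      rw [map_mul, hhW e he, hhZ b hb]
      exact C.mul_mem he.1 (C.inv_mem (hZC hb))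
    refine ⟨w * w, fun v hv => Subtype.ext (MulEquiv.ext fun e => ?_), hhZ, hhW, hCle⟩
    show ((w * w : X) : MulAut V) ((v : MulAut V) e) = (v : MulAut V) (((w * w : X) : MulAut V) e)
    obtain ⟨c, hc, b, ⟨i, rfl⟩, rfl⟩ := Subgroup.mem_sup.mp
      ((hgenV C hidx y hyC).ge (Subgroup.mem_top e))
    obtain ⟨d, hd, hd'⟩ : ∃ d ∈ Z, (v : MulAut V) y = y * d :=
      ⟨y⁻¹ * (v : MulAut V) y, hdisp v hv y, by rw [mul_inv_cancel_left]⟩
    have hdC := hfix v hv d (hZC hd)
    simp only [map_mul, map_zpow, hfix v hv c hc, hd', hfix v hv _ (hhC c hc), hhy, map_inv,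
      hhZ d hd, mul_inv_rev]
    rw [mul_comm y⁻¹ d⁻¹]

end CfsgLib.FusionSub
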